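import Cfsg.Agent.H166.Cov.ThmH

/-!
# Consequences of the main factorization theorem
-/

set_option autoImplicit false

namespace Cfsg.Agent.H166.Cov

open Module Polynomial

universe u

variable {F : Type u} [Field F] {V W U : Type u} [AddCommGroup V] [Module F V]
  [AddCommGroup W] [Module F W] [AddCommGroup U] [Module F U]

/-- the inverse of an endomorphism with nonzero determinant -/
theorem exists_inv [FiniteDimensional F V] {g : End F V} (hg : LinearMap.det g ≠ 0) :
    ∃ h : End F V, g * h = 1 ∧ h * g = 1 := by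
  let e := LinearMap.equivOfDetNeZero g hg
  have he : ∀ x, e x = g x := fun _ => rfl
  refine ⟨(e.symm : V →ₗ[F] V), ?_, ?_⟩
  · ext x
    change g (e.symm x) = x
    rw [← he, e.apply_symm_apply]
  · ext x
    change e.symm (g x) = x
    rw [← he, e.symm_apply_apply]

theorem NS.inv {g h : End F V} (hg : NS g) (h1 : g * h = 1) : NS h := by
  intro c hc
  rw [hc, mul_smul_comm, mul_one] at h1
  by_cases hc0 : c = 0
  · rw [hc0, zero_smul] at h1
    -- `V` is trivial
    exact hg 0 (by rw [← mul_one g, ← h1, mul_zero, zero_smul])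
  · exact hg c⁻¹ (by rw [← h1, smul_smul, inv_mul_cancel₀ hc0, one_smul])

theorem NS.smul {g : End F V} (hg : NS g) {c : F} (hc : c ≠ 0) : NS (c • g) := by
  intro d hd
  exact hg (c⁻¹ * d) (by rw [mul_smul, ← hd, smul_smul, inv_mul_cancel₀ hc, one_smul])

theorem Obs.inv [FiniteDimensional F V] {φ : V →ₗ[F] F} {S T : End F V} (h : Obs φ S)
    (h2 : S * T = 1) : Obs φ T := by
  intro P hP hT
  refine h P hP fun x hx => ?_
  have hT2 : P.map T ≤ P := by
    rintro _ ⟨y, hy, rfl⟩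
    exact hT y hy
  have hinj : Function.Injective T := fun x y hxy => by
    have h3 : (S * T) x = (S * T) y := congrArg S hxy
    rwa [h2] at h3
  have hfin : finrank F (P.map T) = finrank F P :=
    ((Submodule.equivMapOfInjective T hinj P).finrank_eq).symm
  have heq := Submodule.eq_of_le_of_finrank_eq hT2 hfin
  rw [← heq] at hx
  obtain ⟨y, hy, rfl⟩ := hx
  have h3 : S (T y) = y := LinearMap.congr_fun h2 y
  rw [h3]; exact hy

theorem Sim.inv {S S' : End F V} {T' : End F W} (h : Sim S T') {R : End F W} (h1 : S * S' = 1)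
    (h2 : R * T' = 1) : Sim S' R := by
  obtain ⟨e, he⟩ := h
  refine ⟨e, fun x => ?_⟩
  have h3 : e (S (S' x)) = T' (e (S' x)) := he (S' x)
  have h4 : S (S' x) = x := LinearMap.congr_fun h1 x
  rw [h4] at h3
  rw [h3]
  exact (LinearMap.congr_fun h2 (e (S' x))).symm

/-- Theorem H in terms of similarity classes -/
theorem exists_fac [Finite F] (hq : 4 ≤ Nat.card F) [FiniteDimensional F V] (hn : 2 ≤ finrank F V)
    {g : End F V} (hg : NS g) {ν : F} {M₀ X₀ : End F V} (hM : Nice ν M₀) (hX : Coc X₀)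
    (hM0 : LinearMap.det M₀ ≠ 0) (hX0 : LinearMap.det X₀ ≠ 0)
    (hdet : LinearMap.det g * LinearMap.det M₀ = LinearMap.det X₀) :
    ∃ (M Y : End F V) (φ : V →ₗ[F] F), Sim M₀ M ∧ Sim X₀ Y ∧ g * M = Y ∧ Obs φ Y ∧
      ∀ x, φ (M x) = ν * φ x := by
  obtain ⟨hMc, p, hp, hpν⟩ := hM
  have hpm : p.Monic := (monic_X_sub_C ν).of_mul_monic_left (hp ▸ M₀.charpoly_monic)
  have hd : p.natDegree + 1 = finrank F V := by
    rw [← M₀.charpoly_natDegree, hp, (monic_X_sub_C ν).natDegree_mul hpm, natDegree_X_sub_C, add_comm]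
  have hg0 : LinearMap.det g ≠ 0 := by
    rintro h
    rw [h, zero_mul] at hdet
    exact hX0 hdet.symm
  have hp0 : p.coeff 0 ≠ 0 := by
    intro h
    apply hM0
    rw [det_eq_charpoly, hp, mul_coeff_zero, h, mul_zero, mul_zero]
  obtain ⟨M, Y, φ, h1, h2, h3, h4, h5, h6⟩ := thmH hq hn hg hg0 hpm hd hp0 hpν X₀.charpoly_monic
    X₀.charpoly_natDegree (by rw [← hp, ← det_eq_charpoly, ← det_eq_charpoly, hdet])
  exact ⟨M, Y, φ, Sim.of_coc hMc h1 (by rw [h2, hp]), Sim.of_coc hX ⟨φ, h5⟩ h3.symm, h4, h5, h6⟩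

/-- every nonscalar `g` is a product of a given nice and a given cyclic class -/
theorem exists_fac' [Finite F] (hq : 4 ≤ Nat.card F) [FiniteDimensional F V] (hn : 2 ≤ finrank F V)
    {g : End F V} (hg : NS g) {ν : F} {M₀ X₀ : End F V} (hM : Nice ν M₀) (hX : Coc X₀)
    (hg0 : LinearMap.det g ≠ 0) (hdet : LinearMap.det g = LinearMap.det M₀ * LinearMap.det X₀) :
    ∃ (M X : End F V) (φ : V →ₗ[F] F), Sim M₀ M ∧ Sim X₀ X ∧ g = M * X ∧ Obs φ X ∧
      ∀ x, φ (M x) = ν * φ x := by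
  have hM0 : LinearMap.det M₀ ≠ 0 := fun h => hg0 (by rw [hdet, h, zero_mul])
  have hX0 : LinearMap.det X₀ ≠ 0 := fun h => hg0 (by rw [hdet, h, mul_zero])
  obtain ⟨g', hg1, hg2⟩ := exists_inv hg0
  obtain ⟨X', hX1, hX2⟩ := exists_inv hX0
  obtain ⟨φ₀, hφ₀⟩ := hX
  have hd1 : LinearMap.det g * LinearMap.det g' = 1 := by rw [← map_mul, hg1, map_one]
  have hd2 : LinearMap.det X₀ * LinearMap.det X' = 1 := by rw [← map_mul, hX1, map_one]
  obtain ⟨M, Y, φ, h1, h2, h3, h4, h5⟩ := exists_fac hq hn (hg.inv hg1) hM (X₀ := X')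
    ⟨φ₀, hφ₀.inv hX1⟩ hM0 (fun h => by rw [h, mul_zero] at hd2; exact zero_ne_one hd2) (by
      rw [hdet] at hd1
      have h0 : LinearMap.det X₀ * (LinearMap.det g' * LinearMap.det M₀) =
        LinearMap.det X₀ * LinearMap.det X' := by rw [hd2, ← hd1]; ring
      exact mul_left_cancel₀ hX0 h0)
  have hY0 : LinearMap.det Y ≠ 0 := by
    rw [← h2.det]
    exact fun h => by rw [h, mul_zero] at hd2; exact zero_ne_one hd2
  obtain ⟨X, hY1, hY2⟩ := exists_inv hY0
  refine ⟨M, X, φ, h1, ?_, ?_, h4.inv hY1, h5⟩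
  · exact Sim.inv h2 hX2 hY2
  · have h6 : g * Y = M := by rw [← h3, ← mul_assoc, hg1, one_mul]
    rw [← h6, mul_assoc, hY1, mul_one]

/-- from some cyclic class to all nice classes, at the cost of one factor -/
theorem HP.step [Finite F] (hq : 4 ≤ Nat.card F) [FiniteDimensional F V] (hn : 2 ≤ finrank F V)
    {T : End F V} (hT : NS T) (hT0 : LinearMap.det T ≠ 0) {k : ℕ} {X : End F V} (hX : Coc X)
    (h : HP T k X) {ν : F} {M : End F V} (hM : Nice ν M)
    (hd : LinearMap.det M = LinearMap.det T ^ (k + 1)) : HP T (k + 1) M := by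
  obtain ⟨T', hT1, hT2⟩ := exists_inv hT0
  have hd1 : LinearMap.det T * LinearMap.det T' = 1 := by rw [← map_mul, hT1, map_one]
  obtain ⟨M', Y, φ, h1, h2, h3, -, -⟩ := exists_fac hq hn (hT.inv hT1) hM hX
    (by rw [hd]; exact pow_ne_zero _ hT0) (by rw [h.det]; exact pow_ne_zero _ hT0) (by
      rw [hd, h.det, pow_succ', ← mul_assoc, mul_comm (LinearMap.det T'), hd1, one_mul])
  have h4 : T * Y = M' := by rw [← h3, ← mul_assoc, hT1, one_mul]
  have h5 : HP T (1 + k) (T * Y) := (HP.one (Sim.refl T)).mul (h.conj h2)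
  rw [h4, add_comm] at h5
  exact h5.conj h1.symm

theorem common_pow {μ : F} {u : V} {L : List (End F V)} (h : ∀ A ∈ L, A u = μ • u) :
    L.prod u = μ ^ L.length • u := by
  induction L with
  | nil => simp
  | cons A L ih =>
    rw [List.prod_cons, Module.End.mul_apply, ih fun B hB => h B (List.mem_cons_of_mem _ hB), map_smul,
      h A List.mem_cons_self, smul_smul, List.length_cons, pow_succ]

/-- generation from a nice class and a cyclic class -/
theorem Gen.of_nice [Finite F] (hq : 4 ≤ Nat.card F) [FiniteDimensional F V] (hn : 2 ≤ finrank F V)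
    {T : End F V} (hT0 : LinearMap.det T ≠ 0) {a b : ℕ} {μ ν : F} {M X : End F V} (hM : Nice ν M)
    (hν : ν ≠ μ ^ a) (h : HP T a M) (hX : Coc X) (h' : HP T b X) : Gen T (a + b) μ := by
  intro g hg hd
  obtain ⟨M', X', φ, h1, h2, h3, h4, h5⟩ := exists_fac' hq hn hg hM hX
    (by rw [hd]; exact pow_ne_zero _ hT0) (by rw [hd, h.det, h'.det, pow_add])
  obtain ⟨L₁, hL1, hL2, hL3⟩ := h.conj h1
  obtain ⟨L₂, hL1', hL2', hL3'⟩ := h'.conj h2
  refine ⟨L₁ ++ L₂, by simp [hL1, hL1'], ?_, by simp [hL3, hL3', h3], ?_⟩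
  · intro A hA
    rcases List.mem_append.1 hA with h | h
    · exact hL2 A h
    · exact hL2' A h
  · intro u hu
    have e1 : M' u = μ ^ a • u := by
      rw [← hL3, common_pow fun A hA => hu A (List.mem_append_left _ hA), hL1]
    have e2 : X' u = μ ^ b • u := by
      rw [← hL3', common_pow fun A hA => hu A (List.mem_append_right _ hA), hL1']
    have e3 : φ u = 0 := by
      by_contra hne
      have := h5 u
      rw [e1, map_smul, smul_eq_mul] at this
      exact hν (mul_right_cancel₀ hne this).symm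
    have e4 := h4 (Submodule.span F {u}) (fun x hx => by
      obtain ⟨c, rfl⟩ := Submodule.mem_span_singleton.1 hx
      rw [map_smul, e3, smul_zero]) (fun x hx => by
      obtain ⟨c, rfl⟩ := Submodule.mem_span_singleton.1 hx
      rw [map_smul, e2]
      exact Submodule.smul_mem _ _ (Submodule.smul_mem _ _ (Submodule.mem_span_singleton_self u)))
    exact Submodule.span_singleton_eq_bot.1 e4

theorem Coc.ns [FiniteDimensional F V] (hn : 2 ≤ finrank F V) {T : End F V} (hT : Coc T) : NS T := by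
  intro c hc
  obtain ⟨φ, hφ⟩ := hT
  have h1 := hφ (LinearMap.ker φ) (fun x hx => hx) (fun x hx => by
    rw [hc, LinearMap.smul_apply, Module.End.one_apply]
    exact Submodule.smul_mem _ _ hx)
  have h2 := LinearMap.finrank_range_add_finrank_ker φ
  rw [h1, finrank_bot] at h2
  have h3 := Submodule.finrank_le (LinearMap.range φ)
  rw [finrank_self] at h3
  omega

theorem exists_nice_end [Finite F] (hq : 4 ≤ Nat.card F) [FiniteDimensional F V]
    (hn : 2 ≤ finrank F V) {δ : F} (hδ : δ ≠ 0) (ξ : F) :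
    ∃ (ν : F) (M : End F V), ν ≠ ξ ∧ Nice ν M ∧ LinearMap.det M = δ ∧
      ∀ r : F[X], (∀ x, r.eval x ≠ 0) → IsCoprime (LinearMap.charpoly M) r := by
  obtain ⟨ν, p, h1, h2, h3, h4, h5, h6, h7⟩ := exists_nice hq hn hδ ξ
  obtain ⟨M, hM, hMc⟩ := exists_coc (F := F) (V := V) (f := (X - C ν) * p) ((monic_X_sub_C ν).mul h3)
    (by rw [(monic_X_sub_C ν).natDegree_mul h3, natDegree_X_sub_C, h4]; omega)
  refine ⟨ν, M, h2, ⟨hM, p, hMc, h5⟩, ?_, by rw [hMc]; exact h7⟩
  rw [det_eq_charpoly, hMc, h6, ← mul_assoc, ← mul_pow]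
  simp

theorem exists_rootless_end [Finite F] [FiniteDimensional F V]
    (hn : 2 ≤ finrank F V) {δ : F} (hδ : δ ≠ 0) :
    ∃ (X : End F V), Coc X ∧ LinearMap.det X = δ ∧ ∀ x, (LinearMap.charpoly X).eval x ≠ 0 := by
  obtain ⟨p, h1, h2, h3, h4⟩ := exists_rootless (F := F) hn
    (e := (-1) ^ finrank F V * δ) (mul_ne_zero (pow_ne_zero _ (by simp)) hδ)
  obtain ⟨M, hM, hMc⟩ := exists_coc (F := F) (V := V) h1 h2
  refine ⟨M, hM, ?_, by rw [hMc]; exact h4⟩
  rw [det_eq_charpoly, hMc, h3, ← mul_assoc, ← mul_pow]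
  simp

theorem Nice.coc [FiniteDimensional F V] {ν : F} {M : End F V} (h : Nice ν M) : Coc M := h.1

/-- cyclic classes: every nice class is a product of `k ≥ 2` -/
theorem Coc.hp_nice [Finite F] (hq : 4 ≤ Nat.card F) [FiniteDimensional F V] (hn : 2 ≤ finrank F V)
    {T : End F V} (hT : Coc T) (hT0 : LinearMap.det T ≠ 0) {k : ℕ} (hk : 2 ≤ k) {ν : F} {M : End F V}
    (hM : Nice ν M) (hd : LinearMap.det M = LinearMap.det T ^ k) : HP T k M := by
  obtain ⟨k, rfl⟩ := Nat.exists_eq_add_of_le' hk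
  clear hk
  induction k generalizing ν M with
  | zero => exact HP.step hq hn (hT.ns hn) hT0 hT (HP.one (Sim.refl T)) hM hd
  | succ k ih =>
    obtain ⟨ν', M', -, h2, h3, -⟩ := exists_nice_end (V := V) hq hn (δ := LinearMap.det T ^ (k + 2))
      (pow_ne_zero _ hT0) 0
    exact HP.step hq hn (hT.ns hn) hT0 h2.coc (ih h2 h3) hM hd

theorem Coc.gen [Finite F] (hq : 4 ≤ Nat.card F) [FiniteDimensional F V] (hn : 2 ≤ finrank F V)
    {T : End F V} (hT : Coc T) (hT0 : LinearMap.det T ≠ 0) {k : ℕ} (hk : 3 ≤ k) (μ : F) :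
    Gen T k μ := by
  obtain ⟨k, rfl⟩ := Nat.exists_eq_add_of_le' hk
  obtain ⟨ν', M', h1, h2, h3, -⟩ := exists_nice_end (V := V) hq hn (δ := LinearMap.det T ^ (k + 2))
      (pow_ne_zero _ hT0) (μ ^ (k + 2))
  have h4 := Gen.of_nice (μ := μ) hq hn hT0 h2 h1 (hT.hp_nice hq hn hT0 (by omega) h2 h3) hT
    (HP.one (Sim.refl T))
  exact h4

theorem Nice.gen [Finite F] (hq : 4 ≤ Nat.card F) [FiniteDimensional F V] (hn : 2 ≤ finrank F V)
    {T : End F V} {ν : F} (hT : Nice ν T) (hT0 : LinearMap.det T ≠ 0) {μ : F} (hν : ν ≠ μ) :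
    Gen T 2 μ :=
  Gen.of_nice (a := 1) (b := 1) hq hn hT0 hT (by rwa [pow_one]) (HP.one (Sim.refl T)) hT.coc
    (HP.one (Sim.refl T))

end Cfsg.Agent.H166.Cov
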