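import Cfsg.Agent.H166.Cov.Core

/-!
# Direct sums
-/

set_option autoImplicit false

namespace Cfsg.Agent.H166.Cov

open Module Polynomial

universe u

variable {F : Type u} [Field F] {V W U : Type u} [AddCommGroup V] [Module F V]
  [AddCommGroup W] [Module F W] [AddCommGroup U] [Module F U]

theorem prodMap_eq_up (P : End F U) (T : End F W) : P.prodMap T = up P 0 T := by
  ext x <;> simp [up]

theorem Nice.up_left [FiniteDimensional F U] [FiniteDimensional F W] {P : End F U} (R : W →ₗ[F] U)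
    {T : End F W} {ν : F} (hP : Nice ν P) (hT : Coc T)
    (h : IsCoprime (LinearMap.charpoly P) (LinearMap.charpoly T)) : Nice ν (up P R T) := by
  obtain ⟨hPc, p, hp, hpν⟩ := hP
  refine ⟨hPc.up R hT h, p * LinearMap.charpoly T, by rw [charpoly_up, hp, mul_assoc], ?_⟩
  rw [eval_mul]
  refine mul_ne_zero hpν fun h0 => ?_
  obtain ⟨a, b, hab⟩ := h
  have h1 := congrArg (eval ν) hab
  rw [eval_add, eval_mul, eval_mul, h0, hp, eval_mul, eval_sub, eval_X, eval_C, sub_self, eval_one] at h1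
  simp at h1

theorem Nice.up_right [FiniteDimensional F U] [FiniteDimensional F W] {P : End F U} (R : W →ₗ[F] U)
    {T : End F W} {ν : F} (hP : Coc P) (hT : Nice ν T)
    (h : IsCoprime (LinearMap.charpoly P) (LinearMap.charpoly T)) : Nice ν (up P R T) := by
  obtain ⟨hTc, p, hp, hpν⟩ := hT
  refine ⟨hP.up R hTc h, LinearMap.charpoly P * p, by rw [charpoly_up, hp]; ring, ?_⟩
  rw [eval_mul]
  refine mul_ne_zero (fun h0 => ?_) hpν
  obtain ⟨a, b, hab⟩ := h
  have h1 := congrArg (eval ν) hab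
  rw [eval_add, eval_mul, eval_mul, h0, hp, eval_mul, eval_sub, eval_X, eval_C, sub_self, eval_one] at h1
  simp at h1

theorem Sim.prodMap {V' W' : Type u} [AddCommGroup V'] [Module F V'] [AddCommGroup W'] [Module F W']
    {S : End F V} {S' : End F V'} {T : End F W} {T' : End F W'} (h : Sim S S') (h' : Sim T T') :
    Sim (S.prodMap T) (S'.prodMap T') := by
  obtain ⟨e, he⟩ := h
  obtain ⟨f, hf⟩ := h'
  exact ⟨e.prodCongr f, fun x => Prod.ext (he x.1) (hf x.2)⟩

theorem Sim.prod_comm (S : End F V) (T : End F W) : Sim (S.prodMap T) (T.prodMap S) :=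
  ⟨LinearEquiv.prodComm F V W, fun _ => rfl⟩

theorem HP.prodMap {V' W' : Type u} [AddCommGroup V'] [Module F V'] [AddCommGroup W'] [Module F W']
    {S : End F V} {T : End F W} {k : ℕ} {A : End F V'} {B : End F W'} (h : HP S k A)
    (h' : HP T k B) : HP (S.prodMap T) k (A.prodMap B) := by
  induction k generalizing A B with
  | zero =>
    obtain ⟨L, h1, h2, rfl⟩ := h
    obtain ⟨L', h1', h2', rfl⟩ := h'
    rw [List.length_eq_zero_iff] at h1 h1'
    subst h1 h1'
    exact ⟨[], rfl, by simp, by ext x <;> rfl⟩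
  | succ k ih =>
    obtain ⟨L, h1, h2, rfl⟩ := h
    obtain ⟨L', h1', h2', rfl⟩ := h'
    obtain ⟨A, L, rfl⟩ := List.exists_cons_of_length_eq_add_one h1
    obtain ⟨B, L', rfl⟩ := List.exists_cons_of_length_eq_add_one h1'
    have h3 := ih (A := L.prod) (B := L'.prod)
      ⟨L, by simpa using h1, fun C hC => h2 C (List.mem_cons_of_mem _ hC), rfl⟩
      ⟨L', by simpa using h1', fun C hC => h2' C (List.mem_cons_of_mem _ hC), rfl⟩
    have h4 := (HP.one ((h2 A List.mem_cons_self).prodMap (h2' B List.mem_cons_self))).mul h3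
    rw [add_comm] at h4
    rw [List.prod_cons, List.prod_cons]
    exact h4

theorem det_up [FiniteDimensional F U] [FiniteDimensional F W] (P : End F U) (R : W →ₗ[F] U)
    (T : End F W) : LinearMap.det (up P R T) = LinearMap.det P * LinearMap.det T := by
  rw [det_eq_charpoly, charpoly_up, det_eq_charpoly P, det_eq_charpoly T, mul_coeff_zero,
    finrank_prod, pow_add]
  ring

theorem NS.prodMap_left {S : End F V} (hS : NS S) (T : End F W) : NS (S.prodMap T) := by
  intro c hc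
  apply hS c
  ext x
  have h1 := congrArg Prod.fst (LinearMap.congr_fun hc (x, 0))
  simpa using h1

theorem NS.prodMap_right (S : End F V) {T : End F W} (hT : NS T) : NS (S.prodMap T) := by
  intro c hc
  apply hT c
  ext x
  have h1 := congrArg Prod.snd (LinearMap.congr_fun hc (0, x))
  simpa using h1

/-- nice products of `a` elements, with an eigenvalue different from a given one -/
def SN [FiniteDimensional F V] (T : End F V) (a : ℕ) : Prop :=
  ∀ ξ : F, ∃ (ν : F) (M : End F V), ν ≠ ξ ∧ Nice ν M ∧ HP T a M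

theorem SN.sim [FiniteDimensional F V] [FiniteDimensional F W] {S : End F V} {T : End F W}
    {a : ℕ} (h : Sim S T) (hS : SN S a) : SN T a := by
  intro ξ
  obtain ⟨ν, M, h1, h2, h3⟩ := hS ξ
  obtain ⟨e, he⟩ := h
  refine ⟨ν, e.conj M, h1, h2.sim (Sim.conj M e), ?_⟩
  exact (h3.left ⟨e, he⟩).conj (Sim.conj M e)

theorem SN.all [Finite F] (hq : 4 ≤ Nat.card F) [FiniteDimensional F V] (hn : 2 ≤ finrank F V)
    {T : End F V} (hT : NS T) (hT0 : LinearMap.det T ≠ 0) {a : ℕ} (h : SN T a) {ν : F} {M : End F V}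
    (hM : Nice ν M) (hd : LinearMap.det M = LinearMap.det T ^ (a + 1)) : HP T (a + 1) M := by
  obtain ⟨ν', M', -, h2, h3⟩ := h 0
  exact h3.step hq hn hT hT0 h2.coc hM hd

theorem SN.gen [Finite F] (hq : 4 ≤ Nat.card F) [FiniteDimensional F V] (hn : 2 ≤ finrank F V)
    {T : End F V} (hT0 : LinearMap.det T ≠ 0) {a b : ℕ} (h : SN T a) (h' : SN T b) (μ : F) :
    Gen T (a + b) μ := by
  obtain ⟨ν, M, h1, h2, h3⟩ := h (μ ^ a)
  obtain ⟨ν', M', -, h2', h3'⟩ := h' 0
  exact Gen.of_nice hq hn hT0 h2 h1 h3 h2'.coc h3'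

theorem Coc.sn [Finite F] (hq : 4 ≤ Nat.card F) [FiniteDimensional F V] (hn : 2 ≤ finrank F V)
    {T : End F V} (hT : Coc T) (hT0 : LinearMap.det T ≠ 0) {a : ℕ} (ha : 2 ≤ a) : SN T a := by
  intro ξ
  obtain ⟨ν', M', h1, h2, h3, -⟩ := exists_nice_end (V := V) hq hn (δ := LinearMap.det T ^ a)
    (pow_ne_zero _ hT0) ξ
  exact ⟨ν', M', h1, h2, hT.hp_nice hq hn hT0 ha h2 h3⟩

/-- adding a cyclic summand, `a ≥ 3` -/
theorem SN.add [Finite F] (hq : 4 ≤ Nat.card F) [FiniteDimensional F V] [FiniteDimensional F W]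
    (hn : 2 ≤ finrank F V) (hm : 2 ≤ finrank F W) {T : End F V} {S : End F W} (hT : Coc T)
    (hT0 : LinearMap.det T ≠ 0) (hS : NS S) (hS0 : LinearMap.det S ≠ 0) {a : ℕ} (ha : 2 ≤ a)
    (h : SN S a) : SN (T.prodMap S) (a + 1) := by
  intro ξ
  obtain ⟨X, h1, h2, h3⟩ := exists_rootless_end (V := V) hn (δ := LinearMap.det T ^ (a + 1))
    (pow_ne_zero _ hT0)
  obtain ⟨ν, M, h1', h2', h3', h4'⟩ := exists_nice_end (V := W) hq hm
    (δ := LinearMap.det S ^ (a + 1)) (pow_ne_zero _ hS0) ξ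
  refine ⟨ν, X.prodMap M, h1', ?_, ?_⟩
  · rw [prodMap_eq_up]
    exact h2'.up_right 0 h1 (h4' _ h3).symm
  · exact (hT.gen hq hn hT0 (by omega) 0 X (h1.ns hn) h2).hp.prodMap
      (h.all hq hm hS hS0 h2' h3')

/-- two cyclic summands, two factors -/
theorem SN.two [Finite F] (hq : 4 ≤ Nat.card F) [FiniteDimensional F V] [FiniteDimensional F W]
    (hn : 2 ≤ finrank F V) (hm : 2 ≤ finrank F W) {T : End F V} {S : End F W} (hT : Coc T)
    (hT0 : LinearMap.det T ≠ 0) (hS : Coc S) (hS0 : LinearMap.det S ≠ 0) :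
    SN (T.prodMap S) 2 := by
  intro ξ
  by_cases h : finrank F V = 2 ∧ finrank F W = 2
  · obtain ⟨X, h1, h2, h3⟩ := exists_rootless_end (V := V) hn (δ := LinearMap.det T ^ 2)
      (pow_ne_zero _ hT0)
    obtain ⟨ν, M, h1', h2', h3', h4'⟩ := exists_nice_end (V := W) hq hm
      (δ := LinearMap.det S ^ 2) (pow_ne_zero _ hS0) ξ
    refine ⟨ν, X.prodMap M, h1', ?_, ?_⟩
    · rw [prodMap_eq_up]
      exact h2'.up_right 0 h1 (h4' _ h3).symm
    · exact (elliptic h.1 h3 (hT.ns hn) h2).prodMap (hS.hp_nice hq hm hS0 le_rfl h2' h3')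
  · obtain ⟨ν₁, ν₂, p₁, p₂, hν, h1, h2, h3, h4, h1', h2', h3', h4', h5⟩ := exists_pair hq hn hm h
      (pow_ne_zero 2 hT0) (pow_ne_zero 2 hS0)
    obtain ⟨M, hM, hMc⟩ := exists_coc (F := F) (V := V) (f := (X - C ν₁) * p₁)
      ((monic_X_sub_C ν₁).mul h1)
      (by rw [(monic_X_sub_C ν₁).natDegree_mul h1, natDegree_X_sub_C, h2]; omega)
    obtain ⟨M', hM', hMc'⟩ := exists_coc (F := F) (V := W) (f := (X - C ν₂) * p₂)
      ((monic_X_sub_C ν₂).mul h1')
      (by rw [(monic_X_sub_C ν₂).natDegree_mul h1', natDegree_X_sub_C, h2']; omega)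
    have hN : Nice ν₁ M := ⟨hM, p₁, hMc, h3⟩
    have hN' : Nice ν₂ M' := ⟨hM', p₂, hMc', h3'⟩
    have hd : LinearMap.det M = LinearMap.det T ^ 2 := by
      rw [det_eq_charpoly, hMc, h4, ← mul_assoc, ← mul_pow]
      simp
    have hd' : LinearMap.det M' = LinearMap.det S ^ 2 := by
      rw [det_eq_charpoly, hMc', h4', ← mul_assoc, ← mul_pow]
      simp
    have hP : HP (T.prodMap S) 2 (M.prodMap M') :=
      (hT.hp_nice hq hn hT0 le_rfl hN hd).prodMap (hS.hp_nice hq hm hS0 le_rfl hN' hd')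
    have hco : IsCoprime (LinearMap.charpoly M) (LinearMap.charpoly M') := by rw [hMc, hMc']; exact h5
    by_cases h6 : ν₁ = ξ
    · refine ⟨ν₂, M.prodMap M', fun h => hν (h6.trans h.symm), ?_, hP⟩
      rw [prodMap_eq_up]
      exact hN'.up_right 0 hM hco
    · refine ⟨ν₁, M.prodMap M', h6, ?_, hP⟩
      rw [prodMap_eq_up]
      exact hN.up_left 0 hM' hco

theorem dec_cons {f : F[X]} {L : List F[X]} {m : ℕ} {T : End F (Fin m → F)} (h : Dec (f :: L) T) :
    ∃ (m₂ : ℕ) (T₁ : End F (Fin f.natDegree → F)) (T₂ : End F (Fin m₂ → F)),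
      Coc T₁ ∧ LinearMap.charpoly T₁ = f ∧ Dec L T₂ ∧ Sim T (T₁.prodMap T₂) := by
  obtain ⟨m₁, m₂, T₁, T₂, h1, h2, h3, h4⟩ := h
  obtain rfl : m₁ = f.natDegree := by
    rw [← h2, LinearMap.charpoly_natDegree, finrank_fin_fun]
  exact ⟨m₂, T₁, T₂, h1, h2, h3, h4⟩

theorem sim_prod_zero {V₀ : Type u} [AddCommGroup V₀] [Module F V₀] [Subsingleton V₀] (T : End F V)
    (S : End F V₀) : Sim (T.prodMap S) T :=
  ⟨{ toFun := fun x => x.1
     map_add' := fun _ _ => rfl
     map_smul' := fun _ _ => rfl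
     invFun := fun x => (x, 0)
     left_inv := fun x => Prod.ext rfl (Subsingleton.elim _ _)
     right_inv := fun _ => rfl }, fun _ => rfl⟩

theorem dec_single {f : F[X]} {m : ℕ} {T : End F (Fin m → F)} (h : Dec [f] T) :
    Coc T ∧ LinearMap.charpoly T = f := by
  obtain ⟨m₂, T₁, T₂, h1, h2, h3, h4⟩ := dec_cons h
  obtain rfl : m₂ = 0 := h3
  have h5 := (h4.trans (sim_prod_zero T₁ T₂)).symm
  exact ⟨h1.sim h5, by rw [← h5.charpoly, h2]⟩

theorem Dec.le {L : List F[X]} : ∀ {m : ℕ} {T : End F (Fin m → F)}, Dec L T →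
    (∀ f ∈ L, 2 ≤ f.natDegree) → 2 * L.length ≤ m := by
  induction L with
  | nil => intro m T h _; simp
  | cons f L ih =>
    intro m T h hd
    obtain ⟨m₂, T₁, T₂, h1, h2, h3, h4⟩ := dec_cons h
    have h5 := ih h3 (fun g hg => hd g (List.mem_cons_of_mem _ hg))
    have h6 := h4.finrank
    rw [finrank_prod, finrank_fin_fun, finrank_fin_fun, finrank_fin_fun] at h6
    have h7 := hd f List.mem_cons_self
    rw [List.length_cons]
    omega

theorem Dec.ns {L : List F[X]} (hL : L ≠ []) {m : ℕ} {T : End F (Fin m → F)} (h : Dec L T)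
    (hd : ∀ f ∈ L, 2 ≤ f.natDegree) : NS T := by
  obtain ⟨f, L, rfl⟩ := List.exists_cons_of_ne_nil hL
  obtain ⟨m₂, T₁, T₂, h1, h2, h3, h4⟩ := dec_cons h
  exact h4.symm.ns ((h1.ns (by rw [finrank_fin_fun]; exact hd f List.mem_cons_self)).prodMap_left T₂)

theorem Dec.sn [Finite F] (hq : 4 ≤ Nat.card F) {L : List F[X]} (hL : L ≠ [])
    (hd : ∀ f ∈ L, 2 ≤ f.natDegree) : ∀ {m : ℕ} {T : End F (Fin m → F)}, Dec L T →
    LinearMap.det T ≠ 0 → ∀ {a : ℕ}, 2 ≤ a → L.length ≤ a → SN T a := by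
  induction L with
  | nil => exact absurd rfl hL
  | cons f L ih =>
    intro m T h hT0 a ha hLa
    have hf := hd f List.mem_cons_self
    by_cases hL' : L = []
    · subst hL'
      obtain ⟨h1, h2⟩ := dec_single h
      exact h1.sn hq (by rw [← LinearMap.charpoly_natDegree T, h2]; exact hf) hT0 ha
    · obtain ⟨m₂, T₁, T₂, h1, h2, h3, h4⟩ := dec_cons h
      have hd' := fun g hg => hd g (List.mem_cons_of_mem _ hg)
      rw [h4.det, LinearMap.det_prodMap] at hT0
      have h5 := h3.le hd'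
      have h6 := List.length_pos_iff.2 hL'
      rw [List.length_cons] at hLa
      refine SN.sim h4.symm ?_
      by_cases ha3 : 3 ≤ a
      · obtain ⟨a, rfl⟩ : ∃ a', a = a' + 1 := ⟨a - 1, by omega⟩
        exact SN.add hq (by rw [finrank_fin_fun]; exact hf) (by rw [finrank_fin_fun]; omega) h1
          (left_ne_zero_of_mul hT0) (h3.ns hL' hd') (right_ne_zero_of_mul hT0) (by omega)
          (ih hL' hd' h3 (right_ne_zero_of_mul hT0) (by omega) (by omega))
      · obtain rfl : a = 2 := by omega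
        obtain ⟨g, rfl⟩ : ∃ g, L = [g] := List.length_eq_one_iff.1 (by omega)
        obtain ⟨h1', h2'⟩ := dec_single h3
        exact SN.two hq (by rw [finrank_fin_fun]; exact hf) (by rw [finrank_fin_fun]; simpa using h5) h1
          (left_ne_zero_of_mul hT0) h1' (right_ne_zero_of_mul hT0)

theorem Dec.gen [Finite F] (hq : 4 ≤ Nat.card F) {L : List F[X]} (hL : L ≠ [])
    (hd : ∀ f ∈ L, 2 ≤ f.natDegree) {m : ℕ} {T : End F (Fin m → F)} (h : Dec L T)
    (hT0 : LinearMap.det T ≠ 0) {k : ℕ} (hk : 3 ≤ k) (hk' : 2 ≤ L.length → 2 * L.length ≤ k)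
    (μ : F) : Gen T k μ := by
  have h5 := h.le hd
  have h6 := List.length_pos_iff.2 hL
  by_cases hL1 : L.length = 1
  · obtain ⟨f, rfl⟩ := List.length_eq_one_iff.1 hL1
    obtain ⟨h1, h2⟩ := dec_single h
    exact h1.gen hq (by rw [finrank_fin_fun]; simpa using h5) hT0 hk μ
  · have h7 := hk' (by omega)
    obtain ⟨b, rfl⟩ : ∃ b, k = L.length + b := ⟨k - L.length, by omega⟩
    exact SN.gen hq (by rw [finrank_fin_fun]; omega) hT0 (h.sn hq hL hd hT0 (by omega) le_rfl)
      (h.sn hq hL hd hT0 (by omega) (by omega)) μ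

end Cfsg.Agent.H166.Cov
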