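import Cfsg.Agent.H166.Cov.Peel

/-!
# Products of conjugates under the special linear group
-/

set_option autoImplicit false

namespace Cfsg.Agent.H166.Cov

open Module Polynomial

universe u

variable {F : Type u} [Field F] {V W U : Type u} [AddCommGroup V] [Module F V]
  [AddCommGroup W] [Module F W] [AddCommGroup U] [Module F U]

theorem Full.sims {T S : End F V} (hT : Full T) (h : Sim T S) : SimS T S := by
  obtain ⟨e, he⟩ := h
  have hd0 : LinearMap.det (e : V →ₗ[F] V) ≠ 0 := (LinearEquiv.isUnit_det' e).ne_zero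
  obtain ⟨c, hc, hc'⟩ := hT _ (inv_ne_zero hd0)
  refine ⟨c.trans e, ?_, fun x => ?_⟩
  · rw [LinearEquiv.coe_trans, LinearMap.det_comp, hc, mul_inv_cancel₀ hd0]
  · rw [LinearEquiv.trans_apply, LinearEquiv.trans_apply, hc', he]

theorem HPS.sim {T M M' : End F V} {k : ℕ} (h : HPS T k M) (hM : Full M) (hs : Sim M M') :
    HPS T k M' := h.conj (hM.sims hs)

/-- nonscalar elements from nice elements -/
theorem HPS.of_nice [Finite F] (hq : 4 ≤ Nat.card F) [FiniteDimensional F V] (hn : 2 ≤ finrank F V)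
    {T : End F V} (hT0 : LinearMap.det T ≠ 0) {a b : ℕ} {ν ν' : F} {M X : End F V} (hM : Nice ν M)
    (h : HPS T a M) (hX : Nice ν' X) (h' : HPS T b X) {g : End F V} (hg : NS g)
    (hd : LinearMap.det g = LinearMap.det T ^ (a + b)) : HPS T (a + b) g := by
  obtain ⟨M', X', φ, h1, h2, h3, -, -⟩ := exists_fac' hq hn hg hM hX.coc
    (by rw [hd]; exact pow_ne_zero _ hT0) (by rw [hd, h.hp.det, h'.hp.det, pow_add])
  rw [h3]
  exact (h.sim (Full.of_nice hM) h1).mul (h'.sim (Full.of_nice hX) h2)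

theorem HPS.step [Finite F] (hq : 4 ≤ Nat.card F) [FiniteDimensional F V] (hn : 2 ≤ finrank F V)
    {T : End F V} (hT : NS T) (hT0 : LinearMap.det T ≠ 0) {k : ℕ} {ν' : F} {X : End F V}
    (hX : Nice ν' X) (h : HPS T k X) {ν : F} {M : End F V} (hM : Nice ν M)
    (hd : LinearMap.det M = LinearMap.det T ^ (k + 1)) : HPS T (k + 1) M := by
  obtain ⟨T', hT1, hT2⟩ := exists_inv hT0
  have hd1 : LinearMap.det T * LinearMap.det T' = 1 := by rw [← map_mul, hT1, map_one]
  obtain ⟨M', Y, φ, h1, h2, h3, -, -⟩ := exists_fac hq hn (hT.inv hT1) hM hX.coc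
    (by rw [hd]; exact pow_ne_zero _ hT0) (by rw [h.hp.det]; exact pow_ne_zero _ hT0) (by
      rw [hd, h.hp.det, pow_succ', ← mul_assoc, mul_comm (LinearMap.det T'), hd1, one_mul])
  have h4 : T * Y = M' := by rw [← h3, ← mul_assoc, hT1, one_mul]
  have h5 : HPS T (1 + k) (T * Y) := (HPS.one (SimS.refl T)).mul (h.sim (Full.of_nice hX) h2)
  rw [h4, add_comm] at h5
  exact h5.sim (Full.of_nice (hM.sim h1)) h1.symm

/-- some nice element is a product of `a` conjugates under the special linear group -/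
def SNS [FiniteDimensional F V] (T : End F V) (a : ℕ) : Prop :=
  ∃ (ν : F) (M : End F V), Nice ν M ∧ HPS T a M

theorem SNS.mono [Finite F] (hq : 4 ≤ Nat.card F) [FiniteDimensional F V] (hn : 2 ≤ finrank F V)
    {T : End F V} (hT : NS T) (hT0 : LinearMap.det T ≠ 0) {a b : ℕ} (h : SNS T a) (hab : a ≤ b) :
    SNS T b := by
  obtain ⟨b, rfl⟩ := Nat.exists_eq_add_of_le hab
  clear hab
  induction b with
  | zero => exact h
  | succ b ih =>
    obtain ⟨ν', X, h1, h2⟩ := ih
    obtain ⟨ν, M, -, h3, h4, -⟩ := exists_nice_end (V := V) hq hn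
      (δ := LinearMap.det T ^ (a + b + 1)) (pow_ne_zero _ hT0) 0
    exact ⟨ν, M, h3, h2.step hq hn hT hT0 h1 h3 h4⟩

theorem SNS.ns [Finite F] (hq : 4 ≤ Nat.card F) [FiniteDimensional F V] (hn : 2 ≤ finrank F V)
    {T : End F V} (hT : NS T) (hT0 : LinearMap.det T ≠ 0) {a k : ℕ} (h : SNS T a) (hk : 2 * a ≤ k)
    {g : End F V} (hg : NS g) (hd : LinearMap.det g = LinearMap.det T ^ k) : HPS T k g := by
  obtain ⟨ν, M, h1, h2⟩ := h
  obtain ⟨b, rfl⟩ : ∃ b, k = a + b := ⟨k - a, by omega⟩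
  obtain ⟨ν', X, h1', h2'⟩ := SNS.mono hq hn hT hT0 ⟨ν, M, h1, h2⟩ (show a ≤ b by omega)
  exact HPS.of_nice hq hn hT0 h1 h2 h1' h2' hg hd

/-- a scalar from the nonscalar elements -/
theorem scalar_of_ns [FiniteDimensional F V] {T : End F V} (hT : NS T)
    (hT0 : LinearMap.det T ≠ 0) {k : ℕ}
    (h : ∀ g : End F V, NS g → LinearMap.det g = LinearMap.det T ^ k → HPS T k g) {z : F}
    (hz : z ≠ 0) (hd : z ^ finrank F V = LinearMap.det T ^ (k + 1)) :
    HPS T (k + 1) (z • (1 : End F V)) := by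
  obtain ⟨T', hT1, hT2⟩ := exists_inv hT0
  have hd1 : LinearMap.det T * LinearMap.det T' = 1 := by rw [← map_mul, hT1, map_one]
  have h1 := h (z • T') ((hT.inv hT1).smul hz) (by
    rw [LinearMap.det_smul, hd, pow_succ, mul_assoc, hd1, mul_one])
  have h2 := (HPS.one (SimS.refl T)).mul h1
  rw [mul_smul_comm, hT1, add_comm] at h2
  exact h2

theorem scalar_of_ns' [FiniteDimensional F V] {T : End F V} (hT : NS T)
    (hT0 : LinearMap.det T ≠ 0) {k : ℕ}
    (h : ∀ g : End F V, NS g → LinearMap.det g = LinearMap.det T ^ k → HP T k g) {z : F}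
    (hz : z ≠ 0) (hd : z ^ finrank F V = LinearMap.det T ^ (k + 1)) :
    HP T (k + 1) (z • (1 : End F V)) := by
  obtain ⟨T', hT1, hT2⟩ := exists_inv hT0
  have hd1 : LinearMap.det T * LinearMap.det T' = 1 := by rw [← map_mul, hT1, map_one]
  have h1 := h (z • T') ((hT.inv hT1).smul hz) (by
    rw [LinearMap.det_smul, hd, pow_succ, mul_assoc, hd1, mul_one])
  have h2 := (HP.one (Sim.refl T)).mul h1
  rw [mul_smul_comm, hT1, add_comm] at h2
  exact h2

/-- lift along a block with full centralizer -/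
theorem plift_one [FiniteDimensional F U] [FiniteDimensional F W] {P A : End F U} (hP : Full P)
    (R : W →ₗ[F] U) {T B : End F W} (hA : Sim P A) (hB : Sim T B) :
    ∃ R' : W →ₗ[F] U, SimS (up P R T) (up A R' B) := by
  obtain ⟨y, hy⟩ := hA
  obtain ⟨x, hx⟩ := hB
  have hd0 : LinearMap.det (y : U →ₗ[F] U) * LinearMap.det (x : W →ₗ[F] W) ≠ 0 :=
    mul_ne_zero (LinearEquiv.isUnit_det' y).ne_zero (LinearEquiv.isUnit_det' x).ne_zero
  obtain ⟨c, hc, hc'⟩ := hP _ (inv_ne_zero hd0)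
  refine ⟨((c.trans y : U ≃ₗ[F] U) : U →ₗ[F] U) ∘ₗ R ∘ₗ (x.symm : W →ₗ[F] W),
    (c.trans y).prodCongr x, ?_, fun v => ?_⟩
  · have h1 : (((c.trans y).prodCongr x : (U × W) ≃ₗ[F] (U × W)) : (U × W) →ₗ[F] (U × W)) =
      LinearMap.prodMap ((c.trans y : U ≃ₗ[F] U) : U →ₗ[F] U) (x : W →ₗ[F] W) := rfl
    rw [h1]
    refine (LinearMap.det_prodMap _ _).trans ?_
    rw [LinearEquiv.coe_trans, LinearMap.det_comp, hc, mul_inv]
    have h2 := left_ne_zero_of_mul hd0
    have h3 := right_ne_zero_of_mul hd0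
    field_simp
  · rw [up_apply, up_apply]
    refine Prod.ext ?_ (hx _)
    change y (c (P v.1 + R v.2)) = A (y (c v.1)) + y (c (R (x.symm (x v.2))))
    rw [map_add, map_add, hc', hy, LinearEquiv.symm_apply_apply]

theorem plift [FiniteDimensional F U] [FiniteDimensional F W] {P : End F U} (hP : Full P)
    (R : W →ₗ[F] U) {T : End F W} {k : ℕ} {A : End F U} {B : End F W} (hA : HP P k A)
    (hB : HP T k B) : ∃ R' : W →ₗ[F] U, HPS (up P R T) k (up A R' B) := by
  induction k generalizing A B with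
  | zero =>
    obtain ⟨L, h1, h2, rfl⟩ := hA
    obtain ⟨L', h1', h2', rfl⟩ := hB
    rw [List.length_eq_zero_iff] at h1 h1'
    subst h1 h1'
    refine ⟨0, [], rfl, by simp, ?_⟩
    refine LinearMap.ext fun x => ?_
    rw [up_apply]
    simp
  | succ k ih =>
    obtain ⟨L, h1, h2, rfl⟩ := hA
    obtain ⟨L', h1', h2', rfl⟩ := hB
    obtain ⟨A, L, rfl⟩ := List.exists_cons_of_length_eq_add_one h1
    obtain ⟨B, L', rfl⟩ := List.exists_cons_of_length_eq_add_one h1'
    obtain ⟨R₁, h3⟩ := ih (A := L.prod) (B := L'.prod)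
      ⟨L, by simpa using h1, fun C hC => h2 C (List.mem_cons_of_mem _ hC), rfl⟩
      ⟨L', by simpa using h1', fun C hC => h2' C (List.mem_cons_of_mem _ hC), rfl⟩
    obtain ⟨R₂, h4⟩ := plift_one hP R (h2 A List.mem_cons_self) (h2' B List.mem_cons_self)
    have h5 := (HPS.one h4).mul h3
    rw [add_comm, up_mul] at h5
    rw [List.prod_cons, List.prod_cons]
    exact ⟨_, h5⟩

end Cfsg.Agent.H166.Cov
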