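import Cfsg.Agent.H166.Cov.Lin

/-!
# Scalars as products: special classes
-/

set_option autoImplicit false

namespace Cfsg.Agent.H166.Cov

open Module Polynomial

universe u

variable {F : Type u} [Field F] {V W U : Type u} [AddCommGroup V] [Module F V]
  [AddCommGroup W] [Module F W] [AddCommGroup U] [Module F U]

theorem charpoly_dec {L : List F[X]} : ∀ {m : ℕ} {T : End F (Fin m → F)}, Dec L T →
    LinearMap.charpoly T = L.prod := by
  induction L with
  | nil =>
    intro m T h
    obtain rfl : m = 0 := h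
    refine (LinearMap.charpoly_monic T).natDegree_eq_zero.1 ?_
    rw [LinearMap.charpoly_natDegree, finrank_fin_fun]
  | cons f L ih =>
    intro m T h
    obtain ⟨m₂, T₁, T₂, h1, h2, h3, h4⟩ := dec_cons h
    rw [h4.charpoly, LinearMap.charpoly_prodMap, h2, ih h3, List.prod_cons]

theorem Sim.aeval_zero {S : End F V} {T : End F W} (h : Sim S T) {q : F[X]} (hq : aeval S q = 0) :
    aeval T q = 0 := by
  obtain ⟨e, he⟩ := h
  refine LinearMap.ext fun y => ?_
  have h1 := Cfsg.Agent.H560.CovC.aeval_apply_of_comm (e : V →ₗ[F] W) he q (e.symm y)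
  rw [hq, LinearMap.zero_apply, map_zero] at h1
  simpa using h1.symm

theorem aeval_dec {q : F[X]} {L : List F[X]} : ∀ {m : ℕ} {T : End F (Fin m → F)}, Dec L T →
    (∀ f ∈ L, f ∣ q) → aeval T q = 0 := by
  induction L with
  | nil =>
    intro m T h _
    obtain rfl : m = 0 := h
    exact Subsingleton.elim _ _
  | cons f L ih =>
    intro m T h hd
    obtain ⟨m₂, T₁, T₂, h1, h2, h3, h4⟩ := dec_cons h
    refine h4.symm.aeval_zero (LinearMap.ext fun x => ?_)
    rw [Cfsg.Agent.H269.CovDec.aeval_prodMap, ih h3 fun g hg => hd g (List.mem_cons_of_mem _ hg)]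
    obtain ⟨r, hr⟩ := hd f List.mem_cons_self
    have h5 : aeval T₁ q = 0 := by
      have h6 := LinearMap.aeval_self_charpoly T₁
      rw [h2] at h6
      rw [hr, map_mul, h6, zero_mul]
    rw [h5]
    rfl

theorem HP.smul {T : End F V} {g : End F W} {k : ℕ} (h : HP T k g) (c : F) :
    HP (c • T) k (c ^ k • g) := by
  obtain ⟨L, rfl, h2, rfl⟩ := h
  refine ⟨L.map fun A => c • A, by simp, ?_, ?_⟩
  · intro A hA
    obtain ⟨B, hB, rfl⟩ := List.mem_map.1 hA
    exact (h2 B hB).smul c
  · clear h2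
    induction L with
    | nil => simp
    | cons A L ih =>
      rw [List.map_cons, List.prod_cons, ih, List.prod_cons, List.length_cons,
        smul_mul_smul_comm, pow_succ']

theorem HPS.smul {T : End F V} {g : End F V} {k : ℕ} (h : HPS T k g) (c : F) :
    HPS (c • T) k (c ^ k • g) := Cfsg.Agent.H12.CovQ.hps_smul h c

theorem HP.scal_mul {T : End F V} {a b : ℕ} {x y : F} (h : HP T a (x • (1 : End F W)))
    (h' : HP T b (y • (1 : End F W))) : HP T (a + b) ((x * y) • (1 : End F W)) := by
  have h1 := h.mul h'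
  rwa [smul_mul_smul_comm, mul_one] at h1

theorem HP.scal_pow {T : End F V} {a : ℕ} {x : F} (h : HP T a (x • (1 : End F W))) (m : ℕ) :
    HP T (a * m) (x ^ m • (1 : End F W)) := by
  induction m with
  | zero => exact ⟨[], by simp, by simp, by simp⟩
  | succ m ih =>
    rw [mul_add, mul_one, pow_succ]
    exact ih.scal_mul h

theorem HPS.scal_mul {T : End F V} {a b : ℕ} {x y : F} (h : HPS T a (x • (1 : End F V)))
    (h' : HPS T b (y • (1 : End F V))) : HPS T (a + b) ((x * y) • (1 : End F V)) := by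
  have h1 := h.mul h'
  rwa [smul_mul_smul_comm, mul_one] at h1

/-- unipotent times scalar -/
theorem scalar_unip [Finite F] (hq : 4 ≤ Nat.card F) [FiniteDimensional F V] {T : End F V} {l : F}
    (hl : l ≠ 0) {m : ℕ} (hT : aeval T ((X - C l) ^ m) = 0) {n : ℕ} (hn : 2 ≤ n) :
    HP T n (l ^ n • (1 : End F V)) := by
  rw [map_pow, map_sub, aeval_X, aeval_C, Algebra.algebraMap_eq_smul_one] at hT
  have h1 : IsNilpotent (l⁻¹ • (T - l • (1 : End F V))) :=
    ⟨m, by rw [_root_.smul_pow, hT, smul_zero]⟩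
  have h2 := (scalar_of_nilp hq h1 hn).smul l
  have h3 : l • (1 + l⁻¹ • (T - l • (1 : End F V))) = T := by
    rw [smul_add, smul_smul, mul_inv_cancel₀ hl, one_smul, add_sub_cancel]
  rwa [h3] at h2

/-- the quadratic irreducible case -/
theorem scalar_quad [Finite F] [FiniteDimensional F V] {T : End F V} {a b : F}
    (hirr : Irreducible (X ^ 2 - C a * X + C b : F[X]))
    (hT : aeval T (X ^ 2 - C a * X + C b : F[X]) = 0) (m : ℕ) :
    HP T (2 * m) (b ^ m • (1 : End F V)) := by
  have h1 : T * T = a • T - b • 1 := by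
    rw [map_add, map_sub, map_pow, map_mul, aeval_X, aeval_C, aeval_C,
      Algebra.algebraMap_eq_smul_one, Algebra.algebraMap_eq_smul_one, smul_one_mul, pow_two] at hT
    rw [← sub_eq_zero, ← hT]
    abel
  have h2 := sim_sub_of_quadratic hirr h1
  have h3 := (HP.one (Sim.refl T)).mul (HP.one h2)
  have h4 : T * (a • 1 - T) = b • (1 : End F V) := by
    rw [mul_sub, h1, mul_smul_comm, mul_one, sub_sub_cancel]
  rw [h4] at h3
  exact h3.scal_pow m

/-- the diagonalizable case with two eigenvalues -/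
theorem scalar_diag2 [FiniteDimensional F V] {T : End F V} (hT0 : LinearMap.det T ≠ 0) {α β : F}
    (hαβ : α ≠ β) (hT : aeval T ((X - C α) * (X - C β)) = 0) :
    ∃ z : F, z ≠ 0 ∧ HP T (finrank F V) (z • (1 : End F V)) := by
  have hco : IsCoprime (X - C α) (X - C β) := isCoprime_X_sub_C_of_isUnit_sub (sub_ne_zero.2 hαβ).isUnit
  have h1 := Polynomial.disjoint_ker_aeval_of_isCoprime T hco
  have h2 := Polynomial.sup_ker_aeval_eq_ker_aeval_mul_of_coprime T hco
  rw [hT, LinearMap.ker_zero] at h2
  have hc : IsCompl (LinearMap.ker (aeval T (X - C α))) (LinearMap.ker (aeval T (X - C β))) :=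
    ⟨h1, codisjoint_iff.2 h2⟩
  have hker : ∀ {γ : F} {x : V}, x ∈ LinearMap.ker (aeval T (X - C γ)) → T x = γ • x := by
    intro γ x hx
    rw [LinearMap.mem_ker, map_sub, aeval_X, aeval_C, Algebra.algebraMap_eq_smul_one] at hx
    rw [LinearMap.sub_apply, sub_eq_zero] at hx
    simpa using hx
  let b₁ := finBasis F (LinearMap.ker (aeval T (X - C α)))
  let b₂ := finBasis F (LinearMap.ker (aeval T (X - C β)))
  let b := ((b₁.prod b₂).map (Submodule.prodEquivOfIsCompl _ _ hc)).reindex finSumFinEquiv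
  let s : Fin (finrank F (LinearMap.ker (aeval T (X - C α)))) ⊕
    Fin (finrank F (LinearMap.ker (aeval T (X - C β)))) → F := Sum.elim (fun _ => α) (fun _ => β)
  have hb : ∀ i, T (b i) = (s (finSumFinEquiv.symm i)) • b i := by
    intro i
    obtain ⟨j, rfl⟩ := finSumFinEquiv.surjective i
    rw [Equiv.symm_apply_apply]
    have h3 : b (finSumFinEquiv j) = Submodule.prodEquivOfIsCompl _ _ hc ((b₁.prod b₂) j) := by
      simp [b]
    rw [h3]
    rcases j with j | j
    · have h4 : Submodule.prodEquivOfIsCompl _ _ hc ((b₁.prod b₂) (Sum.inl j)) = (b₁ j : V) := by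
        rw [Submodule.coe_prodEquivOfIsCompl']
        simp
      rw [h4]
      exact hker (b₁ j).2
    · have h4 : Submodule.prodEquivOfIsCompl _ _ hc ((b₁.prod b₂) (Sum.inr j)) = (b₂ j : V) := by
        rw [Submodule.coe_prodEquivOfIsCompl']
        simp
      rw [h4]
      exact hker (b₂ j).2
  have h3 := scalar_of_diag b _ T hb
  have h4 := finrank_eq_card_basis b
  rw [Fintype.card_fin] at h4
  refine ⟨∏ i, s (finSumFinEquiv.symm i), ?_, by rw [h4]; exact h3⟩
  refine Finset.prod_ne_zero_iff.2 fun i _ h5 => ?_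
  have h6 := hb i
  rw [h5, zero_smul] at h6
  have h7 : b i = 0 := (LinearMap.equivOfDetNeZero T hT0).injective (h6.trans (map_zero T).symm)
  exact b.ne_zero i h7

end Cfsg.Agent.H166.Cov
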