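import Cfsg.Agent.H166.Cov.Defs

/-!
# Basic properties of the notions of `Defs`
-/

set_option autoImplicit false

namespace Cfsg.Agent.H166.Cov

open Module Polynomial

universe u

variable {F : Type u} [Field F] {V W U : Type u} [AddCommGroup V] [Module F V]
  [AddCommGroup W] [Module F W] [AddCommGroup U] [Module F U]

theorem Sim.refl (S : End F V) : Sim S S := ⟨LinearEquiv.refl F V, fun _ => rfl⟩

theorem Sim.symm {S : End F V} {T : End F W} (h : Sim S T) : Sim T S := by
  obtain ⟨e, he⟩ := h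
  exact ⟨e.symm, fun x => by rw [LinearEquiv.symm_apply_eq, he, e.apply_symm_apply]⟩

theorem Sim.trans {S : End F V} {T : End F W} {R : End F U} (h : Sim S T) (h' : Sim T R) : Sim S R := by
  obtain ⟨e, he⟩ := h
  obtain ⟨f, hf⟩ := h'
  exact ⟨e.trans f, fun x => by rw [LinearEquiv.trans_apply, LinearEquiv.trans_apply, he, hf]⟩

theorem Sim.conj (S : End F V) (e : V ≃ₗ[F] W) : Sim S (e.conj S) :=
  ⟨e, fun x => by simp [LinearEquiv.conj_apply]⟩

theorem Sim.eq_conj {S : End F V} {T : End F W} {e : V ≃ₗ[F] W} (h : ∀ x, e (S x) = T (e x)) :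
    e.conj S = T := by
  ext x
  simp [LinearEquiv.conj_apply, h]

theorem Sim.det {S : End F V} {T : End F W} (h : Sim S T) : LinearMap.det S = LinearMap.det T := by
  obtain ⟨e, he⟩ := h
  rw [← Sim.eq_conj he, LinearEquiv.conj_apply, LinearMap.comp_assoc, LinearMap.det_conj]

theorem Sim.charpoly [FiniteDimensional F V] [FiniteDimensional F W] {S : End F V} {T : End F W}
    (h : Sim S T) : LinearMap.charpoly S = LinearMap.charpoly T := by
  obtain ⟨e, he⟩ := h
  rw [← Sim.eq_conj he, LinearEquiv.charpoly_conj]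

theorem Sim.finrank {S : End F V} {T : End F W} (h : Sim S T) : finrank F V = finrank F W := by
  obtain ⟨e, he⟩ := h
  exact e.finrank_eq

theorem Sim.smul {S : End F V} {T : End F W} (h : Sim S T) (c : F) : Sim (c • S) (c • T) := by
  obtain ⟨e, he⟩ := h
  exact ⟨e, fun x => by rw [LinearMap.smul_apply, LinearMap.smul_apply, map_smul, he]⟩

theorem Sim.ns {S : End F V} {T : End F W} (h : Sim S T) (hS : NS S) : NS T := by
  obtain ⟨e, he⟩ := h
  intro c hc
  apply hS c
  ext x
  apply e.injective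
  rw [he, hc]
  simp

theorem Obs.sim {S : End F V} {T : End F W} {e : V ≃ₗ[F] W} (he : ∀ x, e (S x) = T (e x))
    {φ : V →ₗ[F] F} (h : Obs φ S) : Obs (φ ∘ₗ (e.symm : W →ₗ[F] V)) T := by
  intro P hP hT
  have h1 := h (P.comap (e : V →ₗ[F] W)) (fun x hx => by
    have := hP _ hx
    simpa using this) (fun x hx => by
    have := hT _ hx
    simp only [Submodule.mem_comap, LinearEquiv.coe_coe] at this ⊢
    rw [he]; exact this)
  rw [Submodule.eq_bot_iff] at h1 ⊢
  intro x hx
  have := h1 (e.symm x) (by simpa using hx)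
  simpa using this

theorem Coc.sim {S : End F V} {T : End F W} (h : Sim S T) (hS : Coc S) : Coc T := by
  obtain ⟨e, he⟩ := h
  obtain ⟨φ, hφ⟩ := hS
  exact ⟨_, hφ.sim he⟩

theorem Nice.sim [FiniteDimensional F V] [FiniteDimensional F W] {S : End F V} {T : End F W} {ν : F}
    (h : Sim S T) (hS : Nice ν S) : Nice ν T := by
  obtain ⟨h1, p, h2, h3⟩ := hS
  exact ⟨h1.sim h, p, by rw [← h.charpoly, h2], h3⟩

theorem prod_map_conj (L : List (End F V)) (e : V ≃ₗ[F] W) :
    (L.map fun A => e.conj A).prod = e.conj L.prod := by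
  induction L with
  | nil => ext x; simp [LinearEquiv.conj_apply]
  | cons A L ih =>
    rw [List.map_cons, List.prod_cons, List.prod_cons, ih]
    ext x
    simp [LinearEquiv.conj_apply]

theorem HP.conj {T : End F V} {k : ℕ} {g : End F W} {g' : End F U} (h : HP T k g) (hg : Sim g g') :
    HP T k g' := by
  obtain ⟨L, h1, h2, h3⟩ := h
  obtain ⟨e, he⟩ := hg
  refine ⟨L.map fun A => e.conj A, by simpa using h1, ?_, ?_⟩
  · intro A hA
    obtain ⟨B, hB, rfl⟩ := List.mem_map.1 hA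
    exact (h2 B hB).trans (Sim.conj B e)
  · rw [prod_map_conj, h3, Sim.eq_conj he]

theorem HP.left {S : End F V} {T : End F W} {k : ℕ} {g : End F U} (hs : Sim S T) (h : HP S k g) :
    HP T k g := by
  obtain ⟨L, h1, h2, h3⟩ := h
  exact ⟨L, h1, fun A hA => hs.symm.trans (h2 A hA), h3⟩

theorem HP.mul {T : End F V} {a b : ℕ} {g h : End F W} (hg : HP T a g) (hh : HP T b h) :
    HP T (a + b) (g * h) := by
  obtain ⟨L, h1, h2, h3⟩ := hg
  obtain ⟨L', h1', h2', h3'⟩ := hh
  refine ⟨L ++ L', by simp [h1, h1'], ?_, by simp [h3, h3']⟩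
  intro A hA
  rcases List.mem_append.1 hA with h | h
  · exact h2 A h
  · exact h2' A h

theorem HP.one {T : End F V} {g : End F W} (h : Sim T g) : HP T 1 g :=
  ⟨[g], rfl, by simpa using h, by simp⟩

theorem HP.det {T : End F V} {k : ℕ} {g : End F W} (h : HP T k g) :
    LinearMap.det g = LinearMap.det T ^ k := by
  obtain ⟨L, rfl, h2, rfl⟩ := h
  induction L with
  | nil => simp
  | cons A L ih =>
    rw [List.prod_cons, map_mul, ih (fun B hB => h2 B (List.mem_cons_of_mem _ hB)),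
      ← (h2 A List.mem_cons_self).det, List.length_cons, pow_succ']

theorem HPN.hp {T : End F V} {k : ℕ} {μ : F} {g : End F W} (h : HPN T k μ g) : HP T k g := by
  obtain ⟨L, h1, h2, h3, -⟩ := h
  exact ⟨L, h1, h2, h3⟩

theorem HPN.conj {T : End F V} {k : ℕ} {μ : F} {g : End F W} {g' : End F U} (h : HPN T k μ g)
    (hg : Sim g g') : HPN T k μ g' := by
  obtain ⟨L, h1, h2, h3, h4⟩ := h
  obtain ⟨e, he⟩ := hg
  refine ⟨L.map fun A => e.conj A, by simpa using h1, ?_, ?_, ?_⟩
  · intro A hA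
    obtain ⟨B, hB, rfl⟩ := List.mem_map.1 hA
    exact (h2 B hB).trans (Sim.conj B e)
  · rw [prod_map_conj, h3, Sim.eq_conj he]
  · intro x hx
    have := h4 (e.symm x) (fun A hA => by
      have h5 := hx _ (List.mem_map.2 ⟨A, hA, rfl⟩)
      rw [LinearEquiv.conj_apply] at h5
      simp only [LinearMap.comp_apply, LinearEquiv.coe_coe] at h5
      rw [← e.symm_apply_apply (A (e.symm x)), h5, map_smul])
    simpa using this

theorem HPN.left {S : End F V} {T : End F W} {k : ℕ} {μ : F} {g : End F U} (hs : Sim S T)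
    (h : HPN S k μ g) : HPN T k μ g := by
  obtain ⟨L, h1, h2, h3, h4⟩ := h
  exact ⟨L, h1, fun A hA => hs.symm.trans (h2 A hA), h3, h4⟩

theorem Gen.sim {S : End F V} {T : End F W} {k : ℕ} {μ : F} (hs : Sim S T) (h : Gen S k μ) :
    Gen T k μ := by
  intro g hg hd
  obtain ⟨e, he⟩ := hs.symm
  have hgg := Sim.conj g e
  refine ((h (e.conj g) (hgg.ns hg) ?_).left hs).conj hgg.symm
  rw [← hgg.det, hd, hs.det]

theorem SimS.sim {S T : End F V} (h : SimS S T) : Sim S T := by
  obtain ⟨e, -, he⟩ := h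
  exact ⟨e, he⟩

theorem SimS.refl (S : End F V) : SimS S S := ⟨LinearEquiv.refl F V, by simp, fun _ => rfl⟩

theorem SimS.trans {S T R : End F V} (h : SimS S T) (h' : SimS T R) : SimS S R := by
  obtain ⟨e, h1, he⟩ := h
  obtain ⟨f, h2, hf⟩ := h'
  refine ⟨e.trans f, ?_, fun x => by rw [LinearEquiv.trans_apply, LinearEquiv.trans_apply, he, hf]⟩
  rw [LinearEquiv.coe_trans, LinearMap.det_comp, h1, h2, mul_one]

theorem SimS.symm {S T : End F V} (h : SimS S T) : SimS T S := by
  obtain ⟨e, h1, he⟩ := h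
  refine ⟨e.symm, ?_, fun x => by rw [LinearEquiv.symm_apply_eq, he, e.apply_symm_apply]⟩
  have h2 : LinearMap.det ((e.symm : V →ₗ[F] V) ∘ₗ (e : V →ₗ[F] V)) = 1 := by
    rw [LinearEquiv.symm_comp, LinearMap.det_id]
  rwa [LinearMap.det_comp, h1, mul_one] at h2

theorem HPS.hp {T : End F V} {k : ℕ} {g : End F V} (h : HPS T k g) : HP T k g := by
  obtain ⟨L, h1, h2, h3⟩ := h
  exact ⟨L, h1, fun A hA => (h2 A hA).sim, h3⟩

theorem HPS.mul {T : End F V} {a b : ℕ} {g h : End F V} (hg : HPS T a g) (hh : HPS T b h) :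
    HPS T (a + b) (g * h) := by
  obtain ⟨L, h1, h2, h3⟩ := hg
  obtain ⟨L', h1', h2', h3'⟩ := hh
  refine ⟨L ++ L', by simp [h1, h1'], ?_, by simp [h3, h3']⟩
  intro A hA
  rcases List.mem_append.1 hA with h | h
  · exact h2 A h
  · exact h2' A h

theorem HPS.one {T g : End F V} (h : SimS T g) : HPS T 1 g :=
  ⟨[g], rfl, by simpa using h, by simp⟩

theorem HPS.conj {T : End F V} {k : ℕ} {g g' : End F V} (h : HPS T k g) (hg : SimS g g') :
    HPS T k g' := by
  obtain ⟨L, h1, h2, h3⟩ := h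
  obtain ⟨e, hd, he⟩ := hg
  refine ⟨L.map fun A => e.conj A, by simpa using h1, ?_, ?_⟩
  · intro A hA
    obtain ⟨B, hB, rfl⟩ := List.mem_map.1 hA
    exact (h2 B hB).trans ⟨e, hd, fun x => by simp [LinearEquiv.conj_apply]⟩
  · rw [prod_map_conj, h3, Sim.eq_conj he]

theorem HPS.left {S T : End F V} {k : ℕ} {g : End F V} (hs : SimS S T) (h : HPS S k g) :
    HPS T k g := by
  obtain ⟨L, h1, h2, h3⟩ := h
  exact ⟨L, h1, fun A hA => hs.symm.trans (h2 A hA), h3⟩

end Cfsg.Agent.H166.Cov
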