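import Mathlib

/-!
# Products of similar endomorphisms (definitions for S2483)
-/

set_option autoImplicit false

namespace Cfsg.Agent.H166.Cov

open Module Polynomial

universe u

variable {F : Type u} [Field F] {V W U : Type u} [AddCommGroup V] [Module F V]
  [AddCommGroup W] [Module F W] [AddCommGroup U] [Module F U]

/-- similarity of endomorphisms (of possibly different spaces) -/
def Sim (S : End F V) (T : End F W) : Prop := ∃ e : V ≃ₗ[F] W, ∀ x, e (S x) = T (e x)

/-- similarity by an automorphism of determinant one -/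
def SimS (S T : End F V) : Prop :=
  ∃ e : V ≃ₗ[F] V, LinearMap.det (e : V →ₗ[F] V) = 1 ∧ ∀ x, e (S x) = T (e x)

/-- `T` is not a scalar -/
def NS (T : End F V) : Prop := ∀ c : F, T ≠ c • (1 : End F V)

/-- the functional `φ` is observable for `T` : no nonzero `T`-invariant subspace inside `ker φ` -/
def Obs (φ : V →ₗ[F] F) (T : End F V) : Prop :=
  ∀ S : Submodule F V, (∀ x ∈ S, φ x = 0) → (∀ x ∈ S, T x ∈ S) → S = ⊥

/-- `T` is cocyclic (for finite dimension : cyclic) -/
def Coc (T : End F V) : Prop := ∃ φ : V →ₗ[F] F, Obs φ T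

/-- `T` is cyclic and `ν` is a simple root of its characteristic polynomial -/
def Nice [FiniteDimensional F V] (ν : F) (T : End F V) : Prop :=
  Coc T ∧ ∃ p : F[X], LinearMap.charpoly T = (X - C ν) * p ∧ p.eval ν ≠ 0

/-- `g` is a product of `k` endomorphisms similar to `T` -/
def HP (T : End F V) (k : ℕ) (g : End F W) : Prop :=
  ∃ L : List (End F W), L.length = k ∧ (∀ A ∈ L, Sim T A) ∧ L.prod = g

/-- the same, and the factors have no common eigenvector for the eigenvalue `μ` -/
def HPN (T : End F V) (k : ℕ) (μ : F) (g : End F W) : Prop :=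
  ∃ L : List (End F W), L.length = k ∧ (∀ A ∈ L, Sim T A) ∧ L.prod = g ∧
    ∀ u, (∀ A ∈ L, A u = μ • u) → u = 0

/-- `g` is a product of `k` conjugates of `T` under the special linear group -/
def HPS (T : End F V) (k : ℕ) (g : End F V) : Prop :=
  ∃ L : List (End F V), L.length = k ∧ (∀ A ∈ L, SimS T A) ∧ L.prod = g

/-- the centralizer of `T` in the general linear group has elements of every determinant -/
def Full (T : End F V) : Prop :=
  ∀ c : F, c ≠ 0 → ∃ e : V ≃ₗ[F] V, LinearMap.det (e : V →ₗ[F] V) = c ∧ ∀ x, e (T x) = T (e x)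

/-- every non-scalar `g` with the right determinant is a product of `k` endomorphisms similar to `T`
without a common eigenvector for `μ` -/
def Gen (T : End F V) (k : ℕ) (μ : F) : Prop :=
  ∀ g : End F V, NS g → LinearMap.det g = LinearMap.det T ^ k → HPN T k μ g

/-- block upper triangular endomorphism `(x, y) ↦ (P x + R y, T y)` of `U × W` -/
def up (P : End F U) (R : W →ₗ[F] U) (T : End F W) : End F (U × W) :=
  LinearMap.prod (P ∘ₗ LinearMap.fst F U W + R ∘ₗ LinearMap.snd F U W) (T ∘ₗ LinearMap.snd F U W)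

@[simp] theorem up_apply (P : End F U) (R : W →ₗ[F] U) (T : End F W) (x : U × W) :
    up P R T x = (P x.1 + R x.2, T x.2) := rfl

/-- `T` is a direct sum of cyclic endomorphisms with the characteristic polynomials in the list -/
def Dec : List F[X] → ∀ {m : ℕ}, End F (Fin m → F) → Prop
  | [], m, _ => m = 0
  | f :: L, _, T => ∃ (m₁ m₂ : ℕ) (T₁ : End F (Fin m₁ → F)) (T₂ : End F (Fin m₂ → F)),
      Coc T₁ ∧ LinearMap.charpoly T₁ = f ∧ Dec L T₂ ∧ Sim T (T₁.prodMap T₂)

end Cfsg.Agent.H166.Cov
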