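import Cfsg.Agent.H166.Cov.Good

/-!
# The case of a scalar summand
-/

set_option autoImplicit false

namespace Cfsg.Agent.H166.Cov

open Module Polynomial

universe u

variable {F : Type u} [Field F] {V W U : Type u} [AddCommGroup V] [Module F V]
  [AddCommGroup W] [Module F W] [AddCommGroup U] [Module F U]

/-- a scalar plus a two-dimensional Jordan block is a scalar times a transvection -/
theorem nonscalar_transv [Finite F] (hq : 4 ≤ Nat.card F) [FiniteDimensional F W]
    [FiniteDimensional F U] {T : End F U} {l : F} (hl : l ≠ 0) (hU : finrank F U = 2)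
    (hT : NS T) (hc : LinearMap.charpoly T = (X - C l) ^ 2) (hW : 1 ≤ finrank F W) {g : End F (W × U)}
    (hg : NS g)
    (hd : LinearMap.det g = LinearMap.det ((l • (1 : End F W)).prodMap T) ^ finrank F (W × U)) :
    HP ((l • (1 : End F W)).prodMap T) (finrank F (W × U)) g := by
  set N : End F U := T - l • 1 with hN
  have hN2 : ∀ x, N (N x) = 0 := by
    intro x
    have h1 := LinearMap.aeval_self_charpoly T
    rw [hc, map_pow, map_sub, aeval_X, aeval_C, Algebra.algebraMap_eq_smul_one, ← hN, pow_two] at h1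
    exact LinearMap.congr_fun h1 x
  have hN0 : ∃ x, N x ≠ 0 := by
    by_contra h
    push Not at h
    exact hT l (sub_eq_zero.1 (LinearMap.ext h))
  obtain ⟨x₀, hx₀⟩ := hN0
  set z₀ := N x₀ with hz₀
  -- the image is the line of `z₀`
  have hr : ∀ y, ∃ c : F, N y = c • z₀ := by
    have h1 := LinearMap.finrank_range_add_finrank_ker N
    rw [hU] at h1
    have h2 : 0 < finrank F (LinearMap.ker N) := by
      rw [Module.finrank_pos_iff]
      exact ⟨⟨⟨z₀, LinearMap.mem_ker.2 (hN2 x₀)⟩, 0, fun h => hx₀ (congrArg Subtype.val h)⟩⟩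
    have h3 : Submodule.span F {z₀} ≤ LinearMap.range N := by
      rw [Submodule.span_singleton_le_iff_mem]
      exact ⟨x₀, rfl⟩
    have h4 : Submodule.span F {z₀} = LinearMap.range N := by
      refine Submodule.eq_of_le_of_finrank_eq h3 ?_
      have h5 := Submodule.finrank_mono h3
      rw [finrank_span_singleton hx₀] at h5 ⊢
      omega
    intro y
    have h5 : N y ∈ Submodule.span F {z₀} := by rw [h4]; exact ⟨y, rfl⟩
    obtain ⟨c, hc⟩ := Submodule.mem_span_singleton.1 h5
    exact ⟨c, hc.symm⟩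
  obtain ⟨ψ, hψ⟩ : ∃ ψ : U →ₗ[F] F, ψ z₀ = 1 := by
    obtain ⟨ψ, hψ⟩ := Submodule.exists_le_ker_of_notMem (p := (⊥ : Submodule F U)) (v := z₀)
      (by simpa using hx₀)
    exact ⟨(ψ z₀)⁻¹ • ψ, by simp [inv_mul_cancel₀ hψ.1]⟩
  have hNψ : ∀ y, N y = ψ (N y) • z₀ := by
    intro y
    obtain ⟨c, hc⟩ := hr y
    rw [hc, map_smul, hψ, smul_eq_mul, mul_one]
  let φ : W × U →ₗ[F] F := l⁻¹ • ((ψ ∘ₗ N) ∘ₗ LinearMap.snd F W U)
  have hφ : ∀ x, φ x = l⁻¹ * ψ (N x.2) := fun x => rfl
  set z : W × U := (0, z₀) with hz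
  have hT' : (l • (1 : End F W)).prodMap T = l • (1 + φ.smulRight z) := by
    refine LinearMap.ext fun x => Prod.ext ?_ ?_
    · simp [hz]
    · simp only [LinearMap.prodMap_apply, LinearMap.smul_apply, LinearMap.add_apply,
        Module.End.one_apply, LinearMap.smulRight_apply, hφ, Prod.smul_snd, Prod.snd_add, hz, smul_add,
        smul_smul]
      rw [← mul_assoc, mul_inv_cancel₀ hl, one_mul, ← hNψ, hN, LinearMap.sub_apply]
      simp
  have hfr : finrank F (W × U) = finrank F W + 2 := by rw [finrank_prod, hU]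
  set n := finrank F (W × U) with hn
  have hdT : LinearMap.det ((l • (1 : End F W)).prodMap T) = l ^ n := by
    rw [LinearMap.det_prodMap, LinearMap.det_smul, map_one, mul_one, det_eq_charpoly T, hc, hU, hfr,
      pow_add]
    congr 1
    simp [pow_two, mul_coeff_zero]
  have hln : l ^ n ≠ 0 := pow_ne_zero _ hl
  have h1 := transvections hq (V := W × U) (φ := φ) (z := z) (g := (l ^ n)⁻¹ • g) (by omega)
    (by
      intro h
      have h2 := LinearMap.congr_fun h ((0, x₀) : W × U)
      rw [hφ] at h2
      have h3 : l⁻¹ * ψ z₀ = 0 := h2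
      rw [hψ, mul_one] at h3
      exact inv_ne_zero hl h3)
    (by
      intro h
      exact hx₀ (congrArg Prod.snd h)) (by rw [hφ, hz]; simp only; rw [hN2]; simp)
    (hg.smul (inv_ne_zero hln)) (by
      rw [LinearMap.det_smul, hd, hdT, ← hn, inv_pow, inv_mul_cancel₀ (pow_ne_zero _ hln)])
  have h2 := h1.smul l
  rw [← hT', ← hn, smul_smul, mul_inv_cancel₀ hln, one_smul] at h2
  exact h2

theorem aeval_lin {T : End F U} {l : F} {q : F[X]} (hq : q.eval l = 0) (hT : aeval T q = 0) :
    aeval ((l • (1 : End F W)).prodMap T) q = 0 := by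
  refine LinearMap.ext fun x => ?_
  rw [Cfsg.Agent.H269.CovDec.aeval_prodMap, hT]
  have h1 : l • (1 : End F W) = algebraMap F (End F W) l := (Algebra.algebraMap_eq_smul_one l).symm
  rw [h1, aeval_algebraMap_apply, coe_aeval_eq_eval, hq]
  simp

theorem HP.scal_sim {S : End F V} {T : End F W} {k : ℕ} {z : F} (h : HP S k (z • (1 : End F V)))
    (hs : Sim S T) : HP T k (z • (1 : End F W)) := by
  obtain ⟨e, he⟩ := id hs
  have h7 := Sim.conj (z • (1 : End F V)) e
  rw [conj_smul_one] at h7
  exact (h.left hs).conj h7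

/-- the three-dimensional base case for `scalar_of_two` -/
theorem base_three [Finite F] (hq : 4 ≤ Nat.card F) {B : End F (Fin 2 → F)} {l : F} (hl : l ≠ 0)
    (hB : Coc B) (hB0 : LinearMap.det B ≠ 0) (hlB : (LinearMap.charpoly B).eval l ≠ 0) :
    HP ((l • (1 : End F (Fin 1 → F))).prodMap B) 3
      ((l * LinearMap.det B) • (1 : End F ((Fin 1 → F) × (Fin 2 → F)))) := by
  have hc1 : LinearMap.charpoly (l • (1 : End F (Fin 1 → F))) = X - C l := by
    rw [(sim_smul_one (V := Fin 1 → F) (W := F) l (by rw [finrank_fin_fun, finrank_self])).charpoly,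
      charpoly_smul_one]
  have hco : IsCoprime (LinearMap.charpoly (l • (1 : End F (Fin 1 → F)))) (LinearMap.charpoly B) := by
    rw [hc1, (irreducible_X_sub_C l).coprime_iff_not_dvd, dvd_iff_isRoot]
    exact hlB
  have hcoc : Coc (l • (1 : End F (Fin 1 → F))) :=
    (coc_smul_one l).sim (sim_smul_one l (by rw [finrank_fin_fun, finrank_self]))
  have hnice : Nice l ((l • (1 : End F (Fin 1 → F))).prodMap B) := by
    rw [prodMap_eq_up]
    refine Nice.up_left 0 ⟨hcoc, 1, by rw [hc1, mul_one], by simp⟩ hB hco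
  have hfr : finrank F ((Fin 1 → F) × (Fin 2 → F)) = 3 := by
    rw [finrank_prod, finrank_fin_fun, finrank_fin_fun]
  have hd : LinearMap.det ((l • (1 : End F (Fin 1 → F))).prodMap B) = l * LinearMap.det B := by
    rw [LinearMap.det_prodMap, LinearMap.det_smul, map_one, mul_one, finrank_fin_fun, pow_one]
  have hd0 : LinearMap.det ((l • (1 : End F (Fin 1 → F))).prodMap B) ≠ 0 := by
    rw [hd]; exact mul_ne_zero hl hB0
  have hg := hnice.gen hq (by omega) hd0 (μ := 0) hl
  refine scalar_of_ns' (hnice.coc.ns (by omega)) hd0 (k := 2) (fun g h1 h2 => (hg g h1 h2).hp)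
    (mul_ne_zero hl hB0) ?_
  rw [hfr, hd]

/-- a scalar summand -/
theorem goodG_lin [Finite F] (hq : 4 ≤ Nat.card F) {l : F} (hl : l ≠ 0) {c : ℕ} (hc : 1 ≤ c)
    {L : List F[X]} (hL : L ≠ []) (hm : ∀ f ∈ L, f.Monic) (hd : ∀ f ∈ L, 2 ≤ f.natDegree)
    (hlr : ∀ f ∈ L, f.eval l = 0)
    (h2 : ∀ f ∈ L, ∀ g ∈ L, f.natDegree = 2 → g.natDegree = 2 → f = g)
    {m : ℕ} {T : End F (Fin m → F)} (hT : Dec L T) (hT0 : LinearMap.det T ≠ 0) :
    GoodG ((l • (1 : End F (Fin c → F))).prodMap T) := by
  have hle := hT.le hd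
  have hLl := List.length_pos_iff.2 hL
  have hns := hT.ns hL hd
  have hfr : finrank F ((Fin c → F) × (Fin m → F)) = c + m := by
    rw [finrank_prod, finrank_fin_fun, finrank_fin_fun]
  have hd0 : LinearMap.det ((l • (1 : End F (Fin c → F))).prodMap T) ≠ 0 := by
    rw [LinearMap.det_prodMap, LinearMap.det_smul, map_one, mul_one]
    exact mul_ne_zero (pow_ne_zero _ hl) hT0
  have hgl : ∀ k, Gen T k l → Gen ((l • (1 : End F (Fin c → F))).prodMap T) (c + k) l :=
    fun k hk => gen_lin (by rw [finrank_fin_fun]; omega) hns hT0 hl hk c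
  have hscal : Gen T (m - 1) l → ∃ z : F, z ≠ 0 ∧ HP ((l • (1 : End F (Fin c → F))).prodMap T)
      (c + m) (z • (1 : End F ((Fin c → F) × (Fin m → F)))) := by
    intro h
    refine ⟨_, hd0, ?_⟩
    have h3 := hgl _ h
    have h4 : c + m = c + (m - 1) + 1 := by omega
    rw [h4]
    refine scalar_of_ns' (hns.prodMap_right _) hd0 (fun g h1 h2 => (h3 g h1 h2).hp) hd0 ?_
    rw [hfr, h4]
  refine ⟨fun g hg hgd => ?_, ?_⟩
  · rw [hfr] at hgd ⊢
    by_cases hm3 : 3 ≤ m
    · exact (hgl m (hT.gen hq hL hd hT0 hm3 (fun _ => hle) l) g hg hgd).hp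
    · obtain rfl : m = 2 := by omega
      obtain ⟨f, rfl⟩ : ∃ f, L = [f] := List.length_eq_one_iff.1 (by omega)
      obtain ⟨h3, h4⟩ := dec_single hT
      have hf2 : f.natDegree = 2 := by rw [← h4, LinearMap.charpoly_natDegree, finrank_fin_fun]
      obtain ⟨β, hβ⟩ := quad_split (hm f (by simp)) hf2 (hlr f (by simp))
      by_cases hβl : β = l
      · rw [hβl, ← pow_two] at hβ
        rw [← hfr] at hgd ⊢
        exact nonscalar_transv hq hl (finrank_fin_fun F) hns (h4.trans hβ)
          (by rw [finrank_fin_fun]; exact hc) hg hgd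
      · have hn : Nice β T := ⟨h3, X - C l, by rw [h4, hβ, mul_comm], by
          rw [eval_sub, eval_X, eval_C]; exact sub_ne_zero.2 hβl⟩
        exact (hgl 2 (hn.gen hq (by rw [finrank_fin_fun]) hT0 hβl) g hg hgd).hp
  · rw [hfr]
    by_cases hcase : m = 2 * L.length
    · -- all blocks are equal quadratics
      have h3 := list_two hd (by rw [dec_sum hT]; omega)
      obtain ⟨f, L', rfl⟩ := List.exists_cons_of_ne_nil hL
      have hf2 := h3 f (by simp)
      obtain ⟨β, hβ⟩ := quad_split (hm f (by simp)) hf2 (hlr f (by simp))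
      have h4 : aeval T f = 0 := aeval_dec hT fun g hg =>
        (h2 f (by simp) g hg hf2 (h3 g hg)) ▸ dvd_rfl
      have h5 : aeval ((l • (1 : End F (Fin c → F))).prodMap T) f = 0 := aeval_lin (hlr f (by simp)) h4
      by_cases hβl : β = l
      · rw [hβ, hβl, ← pow_two] at h5
        exact ⟨_, pow_ne_zero _ hl, scalar_unip hq hl h5 (by omega)⟩
      · rw [hβ] at h5
        have h6 := scalar_diag2 hd0 (Ne.symm hβl) h5
        rwa [hfr] at h6
    · by_cases hm4 : 4 ≤ m
      · exact hscal (hT.gen hq hL hd hT0 (by omega) (fun _ => by omega) l)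
      · obtain rfl : m = 3 := by omega
        obtain ⟨f, rfl⟩ : ∃ f, L = [f] := List.length_eq_one_iff.1 (by omega)
        obtain ⟨h3, h4⟩ := dec_single hT
        have hfm := hm f (by simp)
        have hf3 : f.natDegree = 3 := by rw [← h4, LinearMap.charpoly_natDegree, finrank_fin_fun]
        obtain ⟨g, hg⟩ := dvd_iff_isRoot.2 (show f.IsRoot l from hlr f (by simp))
        have hgm : g.Monic := (monic_X_sub_C l).of_mul_monic_left (hg ▸ hfm)
        have hgd : g.natDegree = 2 := by
          have h1 := congrArg natDegree hg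
          rw [hf3, (monic_X_sub_C l).natDegree_mul hgm, natDegree_X_sub_C] at h1
          omega
        by_cases hgl0 : g.eval l = 0
        · obtain ⟨μ, hμ⟩ := quad_split hgm hgd hgl0
          by_cases hμl : μ = l
          · have h5 : aeval T ((X - C l) ^ 3) = 0 := by
              have h6 := LinearMap.aeval_self_charpoly T
              rw [h4, hg, hμ, hμl] at h6
              rw [← h6]
              congr 1
              ring
            have h7 := aeval_lin (W := Fin c → F) (l := l) (q := (X - C l) ^ 3) (by simp) h5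
            exact ⟨l ^ (c + 3), pow_ne_zero _ hl, scalar_unip (m := 3) hq hl h7 (by omega)⟩
          · have hn : Nice μ T := ⟨h3, (X - C l) * (X - C l), by rw [h4, hg, hμ]; ring, by
              rw [eval_mul, eval_sub, eval_X, eval_C]
              exact mul_ne_zero (sub_ne_zero.2 hμl) (sub_ne_zero.2 hμl)⟩
            exact hscal (hn.gen hq (by rw [finrank_fin_fun]; omega) hT0 hμl)
        · -- `l` is a simple root
          obtain ⟨B, hB, hBc⟩ := exists_coc (F := F) (V := Fin 2 → F) hgm (by rw [hgd, finrank_fin_fun])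
          have hc1 : LinearMap.charpoly (l • (1 : End F (Fin 1 → F))) = X - C l := by
            rw [(sim_smul_one (V := Fin 1 → F) (W := F) l
              (by rw [finrank_fin_fun, finrank_self])).charpoly, charpoly_smul_one]
          have hcoc : Coc (l • (1 : End F (Fin 1 → F))) :=
            (coc_smul_one l).sim (sim_smul_one l (by rw [finrank_fin_fun, finrank_self]))
          have hco : IsCoprime (LinearMap.charpoly (l • (1 : End F (Fin 1 → F))))
              (LinearMap.charpoly B) := by
            rw [hc1, hBc, (irreducible_X_sub_C l).coprime_iff_not_dvd, dvd_iff_isRoot]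
            exact hgl0
          have hTB : Sim T ((l • (1 : End F (Fin 1 → F))).prodMap B) := by
            refine Sim.of_coc h3 ?_ ?_
            · rw [prodMap_eq_up]
              exact Coc.up 0 hcoc hB hco
            · rw [LinearMap.charpoly_prodMap, hc1, hBc, h4, hg]
          have hB0 : LinearMap.det B ≠ 0 := by
            intro h
            rw [hTB.det, LinearMap.det_prodMap, h, mul_zero] at hT0
            exact hT0 rfl
          have h5 := scalar_of_two (base_three hq hl hB hB0 (by rw [hBc]; exact hgl0)) (c + 1)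
          have h6 : Sim ((l • (1 : End F (Fin (c + 1) → F))).prodMap B)
              ((l • (1 : End F (Fin c → F))).prodMap T) := by
            refine Sim.trans ?_ ((Sim.refl _).prodMap hTB.symm)
            refine Sim.trans ?_ (Sim.prod_assoc _ _ _)
            rw [smul_one_prodMap]
            refine (sim_smul_one l ?_).prodMap (Sim.refl _)
            rw [finrank_prod, finrank_fin_fun, finrank_fin_fun, finrank_fin_fun]
          exact ⟨_, mul_ne_zero (pow_ne_zero _ hl) hB0, h5.scal_sim h6⟩

end Cfsg.Agent.H166.Cov
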