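import Cfsg.Agent.H166.Cov.FinLin

/-!
# No scalar summand, full centralizer
-/

set_option autoImplicit false

namespace Cfsg.Agent.H166.Cov

open Module Polynomial

universe u

variable {F : Type u} [Field F] {V W U : Type u} [AddCommGroup V] [Module F V]
  [AddCommGroup W] [Module F W] [AddCommGroup U] [Module F U]

theorem full_of_split [Finite F] {L : List F[X]} {m : ℕ} {T : End F (Fin m → F)} (hT : Dec L T)
    {f p r : F[X]} (hf : f ∈ L) (hfm : f.Monic) (hp : Irreducible p) (hpm : p.Monic) (hfp : f = p * r)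
    (hco : IsCoprime p r) : Full T := by
  obtain ⟨L', hL'⟩ := perm_of_mem hf
  obtain ⟨m₂, T₁, T₂, h1, h2, h3, h4⟩ := dec_cons (hT.perm hL')
  have hrm : r.Monic := hpm.of_mul_monic_left (hfp ▸ hfm)
  obtain ⟨P, hP, hPc⟩ := exists_coc (F := F) (V := Fin p.natDegree → F) hpm (by rw [finrank_fin_fun])
  obtain ⟨R, hR, hRc⟩ := exists_coc (F := F) (V := Fin r.natDegree → F) hrm (by rw [finrank_fin_fun])
  have h5 : Sim T₁ (P.prodMap R) := by
    refine Sim.of_coc h1 ?_ ?_
    · rw [prodMap_eq_up]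
      exact Coc.up 0 hP hR (by rw [hPc, hRc]; exact hco)
    · rw [LinearMap.charpoly_prodMap, h2, hPc, hRc, hfp]
  have hPF : Full P := Full.of_irreducible (by rw [hPc]; exact hp)
  exact Full.sim h4.symm (Full.prodMap_left T₂ (Full.sim h5.symm (Full.prodMap_left R hPF)))

theorem scalar_of_gen [FiniteDimensional F V] {T : End F V} (hns : NS T)
    (hd0 : LinearMap.det T ≠ 0) {k : ℕ} {μ : F} (h : Gen T k μ) (hk : finrank F V = k + 1) :
    ∃ z : F, z ≠ 0 ∧ HP T (finrank F V) (z • (1 : End F V)) := by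
  refine ⟨_, hd0, ?_⟩
  rw [hk]
  refine scalar_of_ns' hns hd0 (fun g h1 h2 => (h g h1 h2).hp) hd0 ?_
  rw [hk]

/-- the generic case -/
theorem goodG_gen [Finite F] (hq : 4 ≤ Nat.card F) {L : List F[X]} (hL : L ≠ [])
    (hd : ∀ f ∈ L, 2 ≤ f.natDegree) {m : ℕ} (hm3 : 3 ≤ m) {T : End F (Fin m → F)} (hT : Dec L T)
    (hT0 : LinearMap.det T ≠ 0)
    (hs : (m = 2 * L.length ∨ m = 3) → ∃ z : F, z ≠ 0 ∧ HP T m (z • (1 : End F (Fin m → F)))) :
    GoodG T := by
  have hle := hT.le hd
  refine ⟨fun g hg hgd => ?_, ?_⟩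
  · rw [finrank_fin_fun] at hgd ⊢
    exact (hT.gen hq hL hd hT0 hm3 (fun _ => hle) 0 g hg hgd).hp
  · by_cases h : m = 2 * L.length ∨ m = 3
    · rw [finrank_fin_fun]
      exact hs h
    · push Not at h
      have h1 := hT.gen hq hL hd hT0 (k := m - 1) (by omega) (fun _ => by omega) 0
      exact scalar_of_gen (hT.ns hL hd) hT0 h1 (by rw [finrank_fin_fun]; omega)

theorem exists_ne (a : F) : ∃ b : F, a ≠ b := ⟨a + 1, by simp⟩

/-- a monic polynomial of degree one -/
theorem lin_form {f : F[X]} (hf : f.Monic) (hd : f.natDegree = 1) : ∃ a : F, f = X - C a :=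
  ⟨-f.coeff 0, by rw [hf.eq_X_add_C hd]; simp⟩

theorem eval_ne_of_coprime {a : F} {r : F[X]} (h : IsCoprime (X - C a) r) : r.eval a ≠ 0 := by
  intro h0
  obtain ⟨u, v, huv⟩ := h
  have := congrArg (eval a) huv
  rw [eval_add, eval_mul, eval_mul, h0, eval_sub, eval_X, eval_C, sub_self, eval_one] at this
  simp at this

theorem goodG_zero [Finite F] (hq : 4 ≤ Nat.card F) {L : List F[X]} (hL : L ≠ [])
    (hm : ∀ f ∈ L, f.Monic) (hd : ∀ f ∈ L, 2 ≤ f.natDegree)
    (h2 : ∀ f ∈ L, ∀ g ∈ L, f.natDegree = 2 → g.natDegree = 2 → f = g)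
    {m : ℕ} (hm3 : 3 ≤ m) {T : End F (Fin m → F)} (hT : Dec L T) (hT0 : LinearMap.det T ≠ 0)
    {f p r : F[X]} (hf : f ∈ L) (hp : Irreducible p) (hpm : p.Monic) (hfp : f = p * r)
    (hco : IsCoprime p r) : GoodG T := by
  have hfm := hm f hf
  have hrm : r.Monic := hpm.of_mul_monic_left (hfp ▸ hfm)
  have hns := hT.ns hL hd
  have hpd : 0 < p.natDegree := hp.natDegree_pos
  have hdeg : f.natDegree = p.natDegree + r.natDegree := by rw [hfp, hpm.natDegree_mul hrm]
  refine goodG_gen hq hL hd hm3 hT hT0 fun h => ?_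
  by_cases hcase : m = 2 * L.length
  · have h3 := list_two hd (by rw [dec_sum hT]; omega)
    have hf2 := h3 f hf
    have h4 : aeval T f = 0 := aeval_dec hT fun g hg => (h2 f hf g hg hf2 (h3 g hg)) ▸ dvd_rfl
    by_cases hp2 : p.natDegree = 2
    · have hr1 : r = 1 := hrm.natDegree_eq_zero.1 (by omega)
      rw [hr1, mul_one] at hfp
      have hb := coeff_ne_zero_dec hT hT0 f hf
      have h5 := quad_form hfm hf2
      have h6 := scalar_quad (T := T) (a := -f.coeff 1) (b := f.coeff 0)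
        (by rw [← h5, hfp]; exact hp) (by rw [← h5]; exact h4) L.length
      rw [← hcase] at h6
      exact ⟨_, pow_ne_zero _ hb, h6⟩
    · obtain ⟨a, ha⟩ := lin_form hpm (by omega)
      obtain ⟨b, hb⟩ := lin_form hrm (by omega)
      have hab : a ≠ b := by
        rintro rfl
        rw [ha, hb] at hco
        exact eval_ne_of_coprime hco (by simp)
      rw [hfp, ha, hb] at h4
      have h5 := scalar_diag2 hT0 hab h4
      rwa [finrank_fin_fun] at h5
  · have hm3' : m = 3 := h.resolve_left hcase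
    subst hm3'
    have hle := hT.le hd
    have hLl := List.length_pos_iff.2 hL
    obtain ⟨f', rfl⟩ : ∃ f, L = [f] := List.length_eq_one_iff.1 (by omega)
    obtain rfl : f = f' := by simpa using hf
    obtain ⟨h3, h4⟩ := dec_single hT
    have hf3 : f.natDegree = 3 := by rw [← h4, LinearMap.charpoly_natDegree, finrank_fin_fun]
    have hnice : ∀ ν : F, Nice ν T → ∃ z : F, z ≠ 0 ∧ HP T 3 (z • (1 : End F (Fin 3 → F))) := by
      intro ν hν
      obtain ⟨μ, hμ⟩ := exists_ne ν
      have h5 := scalar_of_gen hns hT0 (hν.gen hq (by rw [finrank_fin_fun]; omega) hT0 hμ)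
        (by rw [finrank_fin_fun])
      rwa [finrank_fin_fun] at h5
    by_cases hp3 : p.natDegree = 3
    · have hr1 : r = 1 := hrm.natDegree_eq_zero.1 (by omega)
      rw [hr1, mul_one] at hfp
      have h5 := scalar_of_irreducible (T := T) (by rw [h4, hfp]; exact hp)
      rw [finrank_fin_fun] at h5
      exact ⟨_, hT0, h5⟩
    · by_cases hp1 : p.natDegree = 1
      · obtain ⟨a, ha⟩ := lin_form hpm hp1
        rw [ha] at hco
        exact hnice a ⟨h3, r, by rw [h4, hfp, ha], eval_ne_of_coprime hco⟩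
      · obtain ⟨b, hb⟩ := lin_form hrm (by omega)
        rw [hb] at hco
        exact hnice b ⟨h3, p, by rw [h4, hfp, hb, mul_comm], eval_ne_of_coprime hco.symm⟩

end Cfsg.Agent.H166.Cov
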