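import Cfsg.Agent.H166.Cov.Scal

/-!
# The target property
-/

set_option autoImplicit false

namespace Cfsg.Agent.H166.Cov

open Module Polynomial

universe u

variable {F : Type u} [Field F] {V W U : Type u} [AddCommGroup V] [Module F V]
  [AddCommGroup W] [Module F W] [AddCommGroup U] [Module F U]

/-- covering in `n` steps, general linear version -/
def GoodG (T : End F V) : Prop :=
  (∀ g : End F V, NS g → LinearMap.det g = LinearMap.det T ^ finrank F V → HP T (finrank F V) g) ∧
    ∃ z : F, z ≠ 0 ∧ HP T (finrank F V) (z • (1 : End F V))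

/-- covering in `n` steps, special linear version -/
def Good (T : End F V) : Prop :=
  (∀ g : End F V, NS g → LinearMap.det g = LinearMap.det T ^ finrank F V → HPS T (finrank F V) g) ∧
    ∃ z : F, z ≠ 0 ∧ HPS T (finrank F V) (z • (1 : End F V))

theorem Good.of_full {T : End F V} (hT : Full T) (h : GoodG T) : Good T :=
  ⟨fun g h1 h2 => hT.hps (h.1 g h1 h2), by
    obtain ⟨z, hz, h3⟩ := h.2
    exact ⟨z, hz, hT.hps h3⟩⟩

theorem conj_smul_one (e : V ≃ₗ[F] W) (z : F) : e.conj (z • (1 : End F V)) = z • (1 : End F W) := by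
  refine LinearMap.ext fun x => ?_
  rw [LinearEquiv.conj_apply]
  simp

theorem GoodG.sim {S : End F V} {T : End F W} (h : Sim S T) (hS : GoodG S) : GoodG T := by
  have hfr := h.finrank
  refine ⟨fun g h1 h2 => ?_, ?_⟩
  · obtain ⟨e, he⟩ := h.symm
    have hgg := Sim.conj g e
    rw [← hfr] at h2 ⊢
    refine ((hS.1 (e.conj g) (hgg.ns h1) ?_).left h).conj hgg.symm
    rw [← hgg.det, h2, h.det]
  · obtain ⟨z, hz, h3⟩ := hS.2
    refine ⟨z, hz, ?_⟩
    rw [← hfr]
    obtain ⟨e, he⟩ := h
    have hgg := Sim.conj (z • (1 : End F V)) e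
    rw [conj_smul_one] at hgg
    exact (h3.left ⟨e, he⟩).conj hgg

theorem SimS.transport {S T : End F V} (h : SimS S T) (e : V ≃ₗ[F] W) : SimS (e.conj S) (e.conj T) := by
  obtain ⟨f, h1, h2⟩ := h
  refine ⟨e.symm.trans (f.trans e), ?_, fun x => ?_⟩
  · have h3 : ((e.symm.trans (f.trans e) : W ≃ₗ[F] W) : W →ₗ[F] W) =
      (e : V →ₗ[F] W) ∘ₗ (f : V →ₗ[F] V) ∘ₗ (e.symm : W →ₗ[F] V) := rfl
    rw [h3, LinearMap.det_conj, h1]
  · simp [LinearEquiv.conj_apply, h2]

theorem HPS.transport {T g : End F V} {k : ℕ} (h : HPS T k g) (e : V ≃ₗ[F] W) :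
    HPS (e.conj T) k (e.conj g) := by
  obtain ⟨L, h1, h2, h3⟩ := h
  refine ⟨L.map fun A => e.conj A, by simpa using h1, ?_, ?_⟩
  · intro A hA
    obtain ⟨B, hB, rfl⟩ := List.mem_map.1 hA
    exact (h2 B hB).transport e
  · rw [prod_map_conj, h3]

theorem Good.sim {S : End F V} {T : End F W} (h : Sim S T) (hS : Good S) : Good T := by
  have hfr := h.finrank
  obtain ⟨e, he⟩ := h
  have hT : e.conj S = T := Sim.eq_conj he
  subst hT
  refine ⟨fun g h1 h2 => ?_, ?_⟩
  · have hgg := Sim.conj g e.symm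
    have h3 := hS.1 (e.symm.conj g) (hgg.ns h1) (by
      rw [← hgg.det, h2, hfr, (Sim.conj S e).det])
    have h4 := h3.transport e
    rw [← hfr]
    have h5 : e.conj (e.symm.conj g) = g := by
      refine LinearMap.ext fun x => ?_
      simp [LinearEquiv.conj_apply]
    rwa [h5] at h4
  · obtain ⟨z, hz, h3⟩ := hS.2
    refine ⟨z, hz, ?_⟩
    rw [← hfr, ← conj_smul_one e]
    exact h3.transport e

theorem dec_sum {L : List F[X]} {m : ℕ} {T : End F (Fin m → F)} (hT : Dec L T) :
    (L.map natDegree).sum = m := Cfsg.Agent.H269.CovDec.dec_sum hT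

theorem list_two {L : List F[X]} (hd : ∀ f ∈ L, 2 ≤ f.natDegree)
    (h : (L.map natDegree).sum ≤ 2 * L.length) : ∀ f ∈ L, f.natDegree = 2 := by
  induction L with
  | nil => simp
  | cons g L ih =>
    rw [List.map_cons, List.sum_cons, List.length_cons] at h
    have h1 := hd g List.mem_cons_self
    have h2 : 2 * L.length ≤ (L.map natDegree).sum := by
      have h3 : ∀ L : List F[X], (∀ f ∈ L, 2 ≤ f.natDegree) → 2 * L.length ≤ (L.map natDegree).sum := by
        intro L hL
        induction L with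
        | nil => simp
        | cons a L ih =>
          rw [List.map_cons, List.sum_cons, List.length_cons]
          have := ih (fun f hf => hL f (List.mem_cons_of_mem _ hf))
          have := hL a List.mem_cons_self
          omega
      exact h3 L fun f hf => hd f (List.mem_cons_of_mem _ hf)
    intro f hf
    rcases List.mem_cons.1 hf with rfl | hf
    · omega
    · exact ih (fun f hf => hd f (List.mem_cons_of_mem _ hf)) (by omega) f hf

theorem coeff_ne_zero_dec {L : List F[X]} {m : ℕ} {T : End F (Fin m → F)} (h : Dec L T)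
    (hT0 : LinearMap.det T ≠ 0) : ∀ f ∈ L, f.coeff 0 ≠ 0 := by
  intro f hf h0
  apply hT0
  obtain ⟨r, hr⟩ := List.dvd_prod hf
  rw [det_eq_charpoly, charpoly_dec h, hr, mul_coeff_zero, h0, zero_mul, mul_zero]

theorem perm_of_mem {L : List F[X]} {f : F[X]} (hf : f ∈ L) : ∃ L', L.Perm (f :: L') :=
  Cfsg.Agent.H269.CovDec.exists_perm_of_mem hf

/-- a monic quadratic polynomial with a root splits -/
theorem quad_split {f : F[X]} (hf : f.Monic) (hd : f.natDegree = 2) {l : F} (hl : f.eval l = 0) :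
    ∃ β : F, f = (X - C l) * (X - C β) := by
  obtain ⟨g, hg⟩ := dvd_iff_isRoot.2 (show f.IsRoot l from hl)
  have hgm : g.Monic := (monic_X_sub_C l).of_mul_monic_left (hg ▸ hf)
  have hgd : g.natDegree = 1 := by
    have h1 := congrArg natDegree hg
    rw [hd, (monic_X_sub_C l).natDegree_mul hgm, natDegree_X_sub_C] at h1
    omega
  refine ⟨-g.coeff 0, ?_⟩
  rw [hg, hgm.eq_X_add_C hgd]
  simp

theorem quad_form {f : F[X]} (hf : f.Monic) (hd : f.natDegree = 2) :
    f = X ^ 2 - C (-f.coeff 1) * X + C (f.coeff 0) := by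
  conv_lhs => rw [hf.as_sum, hd]
  rw [Finset.sum_range_succ, Finset.sum_range_one]
  simp only [pow_zero, mul_one, pow_one, map_neg]
  ring

end Cfsg.Agent.H166.Cov
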