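import Cfsg.Agent.H158.Pencil
import Cfsg.Agent.H216.Cov.Pole
import Cfsg.Agent.H560.CovD
import Cfsg.Agent.H151.Cov.Poly
import Cfsg.Agent.H151.Cov.Nilp
import Cfsg.Agent.H131.CovElliptic
import Cfsg.Agent.H783.CovG
import Cfsg.Agent.H956.CovLower
import Cfsg.Agent.H269.CovDec
import Cfsg.Agent.H71.CovFull
import Cfsg.Agent.H12.CovQ
import Cfsg.Agent.H446.CovReal
import Cfsg.Agent.H446.CovPsl
import Cfsg.Agent.H12.CovP

set_option autoImplicit false

namespace Cfsg.Agent.H166.Cov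

open Module Polynomial

universe u

variable {F : Type u} [Field F] {V W U : Type u} [AddCommGroup V] [Module F V]
  [AddCommGroup W] [Module F W] [AddCommGroup U] [Module F U]

-- A
theorem exists_pencil [Finite F] (hq : 4 ≤ Nat.card F) [FiniteDimensional F W] [FiniteDimensional F U]
    (hd : finrank F U = finrank F W + 1) (a b : W →ₗ[F] U) (ha : Function.Injective a)
    (hb : Function.Injective b) :
    ∃ D : W →ₗ[F] U, (∀ S : Submodule F W, (∀ x ∈ S, ∃ y ∈ S, D x = a y) → S = ⊥) ∧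
      (∀ S : Submodule F W, (∀ x ∈ S, ∃ y ∈ S, D x = b y) → S = ⊥) :=
  Cfsg.Agent.H158.Pencil.exists_pencil hq hd a b ha hb

-- B
theorem exists_charpoly_add [FiniteDimensional F V] {φ : V →ₗ[F] F} {T : End F V} (h : Obs φ T)
    {f : F[X]} (hf : f.Monic) (hd : f.natDegree = finrank F V) :
    ∃ b : V, LinearMap.charpoly (T + φ.smulRight b) = f :=
  Cfsg.Agent.H216.Pole.exists_charpoly_add h hf hd

-- C
theorem coc_iff [FiniteDimensional F V] (T : End F V) :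
    Coc T ↔ ∃ v : V, ∀ w : V, ∃ p : F[X], aeval T p v = w :=
  Cfsg.Agent.H560.CovC.coc_iff T

theorem Sim.of_coc [FiniteDimensional F V] [FiniteDimensional F W] {S : End F V} {T : End F W}
    (hS : Coc S) (hT : Coc T) (h : LinearMap.charpoly S = LinearMap.charpoly T) : Sim S T :=
  Cfsg.Agent.H560.CovC.Sim.of_coc hS hT h

theorem exists_coc [FiniteDimensional F V] {f : F[X]} (hf : f.Monic) (hd : f.natDegree = finrank F V) :
    ∃ T : End F V, Coc T ∧ LinearMap.charpoly T = f :=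
  Cfsg.Agent.H560.CovC.exists_coc hf hd

-- D
theorem charpoly_up [FiniteDimensional F U] [FiniteDimensional F W] (P : End F U) (R : W →ₗ[F] U)
    (T : End F W) : LinearMap.charpoly (up P R T) = LinearMap.charpoly P * LinearMap.charpoly T :=
  Cfsg.Agent.H560.CovD.charpoly_up P R T

theorem Coc.up [FiniteDimensional F U] [FiniteDimensional F W] {P : End F U} (R : W →ₗ[F] U)
    {T : End F W} (hP : Coc P) (hT : Coc T) (h : IsCoprime (LinearMap.charpoly P) (LinearMap.charpoly T)) :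
    Coc (up P R T) :=
  Cfsg.Agent.H560.CovD.Coc.up R hP hT h

-- C2
theorem exists_up [FiniteDimensional F V] {T : End F V} (hT : Coc T) {f g : F[X]} (hf : f.Monic)
    (hg : g.Monic) (h : LinearMap.charpoly T = f * g) :
    ∃ (P : End F (Fin f.natDegree → F)) (R : (Fin g.natDegree → F) →ₗ[F] (Fin f.natDegree → F))
      (T' : End F (Fin g.natDegree → F)), Sim T (Cov.up P R T') ∧ Coc P ∧ LinearMap.charpoly P = f ∧
        Coc T' ∧ LinearMap.charpoly T' = g :=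
  Cfsg.Agent.H560.CovD.exists_up hT hf hg h

-- E
theorem exists_rootless [Finite F] {d : ℕ} (hd : 2 ≤ d) {e : F} (he : e ≠ 0) :
    ∃ p : F[X], p.Monic ∧ p.natDegree = d ∧ p.coeff 0 = e ∧ ∀ x, p.eval x ≠ 0 :=
  Cfsg.Agent.H151.Cov.Poly.exists_rootless hd he

theorem exists_nice [Finite F] (hq : 4 ≤ Nat.card F) {n : ℕ} (hn : 2 ≤ n) {δ : F} (hδ : δ ≠ 0) (ξ : F) :
    ∃ (ν : F) (p : F[X]), ν ≠ 0 ∧ ν ≠ ξ ∧ p.Monic ∧ p.natDegree = n - 1 ∧ p.eval ν ≠ 0 ∧
      ((X - C ν) * p).coeff 0 = (-1) ^ n * δ ∧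
      ∀ r : F[X], (∀ x, r.eval x ≠ 0) → IsCoprime ((X - C ν) * p) r :=
  Cfsg.Agent.H151.Cov.Poly.exists_nice hq hn hδ ξ

theorem exists_pair [Finite F] (hq : 4 ≤ Nat.card F) {n₁ n₂ : ℕ} (h₁ : 2 ≤ n₁) (h₂ : 2 ≤ n₂)
    (h : ¬ (n₁ = 2 ∧ n₂ = 2)) {δ₁ δ₂ : F} (hδ₁ : δ₁ ≠ 0) (hδ₂ : δ₂ ≠ 0) :
    ∃ (ν₁ ν₂ : F) (p₁ p₂ : F[X]), ν₁ ≠ ν₂ ∧ p₁.Monic ∧ p₁.natDegree = n₁ - 1 ∧ p₁.eval ν₁ ≠ 0 ∧
      ((X - C ν₁) * p₁).coeff 0 = (-1) ^ n₁ * δ₁ ∧ p₂.Monic ∧ p₂.natDegree = n₂ - 1 ∧ p₂.eval ν₂ ≠ 0 ∧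
      ((X - C ν₂) * p₂).coeff 0 = (-1) ^ n₂ * δ₂ ∧ IsCoprime ((X - C ν₁) * p₁) ((X - C ν₂) * p₂) :=
  Cfsg.Agent.H151.Cov.Poly.exists_pair hq h₁ h₂ h hδ₁ hδ₂

-- F
theorem elliptic [Finite F] [FiniteDimensional F V] (hV : finrank F V = 2) {M T : End F V}
    (hM : ∀ x, (LinearMap.charpoly M).eval x ≠ 0) (hT : NS T)
    (hdet : LinearMap.det M = LinearMap.det T ^ 2) : HP T 2 M :=
  Cfsg.Agent.H131.CovElliptic.elliptic hV hM hT hdet

-- G
theorem transvections [Finite F] (hq : 4 ≤ Nat.card F) [FiniteDimensional F V] (hn : 3 ≤ finrank F V)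
    {φ : V →ₗ[F] F} {z : V} (hφ : φ ≠ 0) (hz : z ≠ 0) (hφz : φ z = 0) {g : End F V} (hg : NS g)
    (hdet : LinearMap.det g = 1) : HP (1 + φ.smulRight z) (finrank F V) g :=
  Cfsg.Agent.H783.CovG.transvections hq hn hφ hz hφz hg hdet

-- I
theorem Dec.perm {L L' : List F[X]} (h : L.Perm L') {m : ℕ} {T : End F (Fin m → F)} (hT : Dec L T) :
    Dec L' T :=
  Cfsg.Agent.H269.CovDec.Dec.perm h hT

theorem Dec.sim {L : List F[X]} {m : ℕ} {S T : End F (Fin m → F)} (h : Sim S T) (hS : Dec L S) :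
    Dec L T :=
  Cfsg.Agent.H269.CovDec.Dec.sim h hS

theorem exists_dec {m : ℕ} (T : End F (Fin m → F)) : ∃ L : List F[X], Dec L T ∧
    (∀ f ∈ L, f.Monic ∧ 1 ≤ f.natDegree) ∧ L.Pairwise (fun f g => ¬ IsCoprime f g) ∧
    (∀ f ∈ L, ∀ g ∈ L, f.natDegree = 2 → g.natDegree = 2 → f = g) :=
  Cfsg.Agent.H269.CovDec.exists_dec T

-- J
theorem Full.of_nice [FiniteDimensional F V] {ν : F} {T : End F V} (h : Nice ν T) : Full T :=
  Cfsg.Agent.H71.CovFull.Full.of_nice h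

theorem Full.of_irreducible [Finite F] [FiniteDimensional F V] {T : End F V}
    (h : Irreducible (LinearMap.charpoly T)) : Full T :=
  Cfsg.Agent.H71.CovFull.Full.of_irreducible h

theorem Full.prodMap_left [FiniteDimensional F U] [FiniteDimensional F W] {P : End F U} (T : End F W)
    (h : Full P) : Full (P.prodMap T) :=
  Cfsg.Agent.H71.CovFull.Full.prodMap_left T h

theorem Full.of_coprime_finrank [FiniteDimensional F U] [FiniteDimensional F W] (P : End F U)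
    (T : End F W) (h : (finrank F U).Coprime (finrank F W)) : Full (P.prodMap T) :=
  Cfsg.Agent.H71.CovFull.Full.of_coprime_finrank P T h

theorem Full.sim {S : End F V} {T : End F W} (h : Sim S T) (hS : Full S) : Full T :=
  Cfsg.Agent.H71.CovFull.Full.sim h hS

theorem Full.hps {T g : End F V} {k : ℕ} (hT : Full T) (h : HP T k g) : HPS T k g :=
  Cfsg.Agent.H71.CovFull.Full.hps hT h

-- K
theorem sim_sub_of_quadratic [Finite F] [FiniteDimensional F V] {T : End F V} {a b : F}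
    (hirr : Irreducible (X ^ 2 - C a * X + C b : F[X])) (hT : T * T = a • T - b • 1) :
    Sim T (a • 1 - T) :=
  Cfsg.Agent.H71.CovScal.sim_sub_of_quadratic hirr hT

-- L
theorem scalar_of_diag {n : ℕ} (b : Basis (Fin n) F V) (α : Fin n → F) (T : End F V)
    (h : ∀ i, T (b i) = α i • b i) : HP T n ((∏ i, α i) • (1 : End F V)) :=
  Cfsg.Agent.H71.CovScal.scalar_of_diag b α T h

-- M
theorem scalar_of_nilp [Finite F] (hq : 4 ≤ Nat.card F) [FiniteDimensional F V] {N : End F V}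
    (hN : IsNilpotent N) {n : ℕ} (hn : 2 ≤ n) : HP (1 + N) n (1 : End F V) :=
  Cfsg.Agent.H151.Cov.Nilp.scalar_of_nilp hq hN hn

-- N
theorem scalar_of_irreducible [Finite F] [FiniteDimensional F V] {T : End F V}
    (hirr : Irreducible (LinearMap.charpoly T)) :
    HP T (finrank F V) (LinearMap.det T • (1 : End F V)) :=
  Cfsg.Agent.H71.CovScal.scalar_of_irreducible hirr

-- O
theorem scalar_of_two {B : End F (Fin 2 → F)} {l : F} 
    (h3 : HP ((l • (1 : End F (Fin 1 → F))).prodMap B) 3 ((l * LinearMap.det B) • (1 : End F ((Fin 1 → F) × (Fin 2 → F)))))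
    (m : ℕ) : HP ((l • (1 : End F (Fin m → F))).prodMap B) (m + 2)
      ((l ^ m * LinearMap.det B) • (1 : End F ((Fin m → F) × (Fin 2 → F)))) :=
  Cfsg.Agent.H71.CovScal.scalar_of_two h3 m

end Cfsg.Agent.H166.Cov
namespace Cfsg.Agent.H166.Cov
open Module Polynomial
universe u
variable {F : Type u} [Field F] {V W U : Type u} [AddCommGroup V] [Module F V]
  [AddCommGroup W] [Module F W] [AddCommGroup U] [Module F U]

theorem lower {F : Type*} [Field F] [Fintype F] (n : ℕ) (hn : 3 ≤ n) : ∃ x : Matrix.ProjectiveSpecialLinearGroup (Fin n) F, x ≠ 1 ∧ ∃ g : Matrix.ProjectiveSpecialLinearGroup (Fin n) F, ∀ f : Fin (n - 1) → Matrix.ProjectiveSpecialLinearGroup (Fin n) F, g ≠ (List.ofFn fun i => f i * x * (f i)⁻¹).prod :=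
  Cfsg.Agent.H956.CovLower.lower n hn
theorem exists_nice_sq_zero [Finite F] (hq : 4 ≤ Nat.card F) [FiniteDimensional F V] {b : ℕ} (hb : 2 ≤ b) (hV : finrank F V = 2 * b) {N : End F V} (hN : N * N = 0) (hr : finrank F (LinearMap.range N) = b) {l : F} (hl : l ≠ 0) : ∃ (M : End F V) (ν : F), Nice ν M ∧ HPS (l • (1 + N)) 2 M :=
  Cfsg.Agent.H12.CovP.exists_nice_sq_zero hq hb hV hN hr hl
theorem hps_three [Finite F] (hq : 4 ≤ Nat.card F) [FiniteDimensional F V] (hV : finrank F V = 3) {T : End F V} {l : F} (hl : l ≠ 0) (hT : Coc T) (hc : LinearMap.charpoly T = (X - C l) ^ 3) {g : End F V} (hg : NS g) (hdet : LinearMap.det g = LinearMap.det T ^ 3) : HPS T 3 g :=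
  Cfsg.Agent.H12.CovQ.hps_three hq hV hl hT hc hg hdet
theorem hps_three_scalar [Finite F] (hq : 4 ≤ Nat.card F) [FiniteDimensional F V] (hV : finrank F V = 3) {T : End F V} {l : F} (hl : l ≠ 0) (hT : Coc T) (hc : LinearMap.charpoly T = (X - C l) ^ 3) : HPS T 3 (l ^ 3 • (1 : End F V)) :=
  Cfsg.Agent.H12.CovQ.hps_three_scalar hq hV hl hT hc
theorem sims_real [FiniteDimensional F V] (hV : finrank F V = 4) {T : End F V} (hT : Coc T) {a b : F} (hb : b ≠ 0) (hc : LinearMap.charpoly T = (X ^ 2 - C a * X + C b) ^ 2) : ∃ T' : End F V, SimS T T' ∧ T * T' = b • (1 : End F V) :=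
  Cfsg.Agent.H446.CovReal.sims_real hV hT hb hc
theorem sims_sq_zero [FiniteDimensional F V] (hV : finrank F V = 4) {N : End F V} (hN : N * N = 0) (hr : finrank F (LinearMap.range N) = 2) (l : F) : SimS (l • (1 + N)) (l • (1 - N)) :=
  Cfsg.Agent.H446.CovReal.sims_sq_zero hV hN hr l
theorem upper_of {F : Type u} [Field F] [Fintype F] (n : ℕ) (hn : 3 ≤ n) (H : ∀ T g : End F (Fin n → F), LinearMap.det T = 1 → NS T → LinearMap.det g = 1 → ∃ z : F, z ≠ 0 ∧ HPS T n (z • g)) : ∀ x : Matrix.ProjectiveSpecialLinearGroup (Fin n) F, x ≠ 1 → ∀ g : Matrix.ProjectiveSpecialLinearGroup (Fin n) F, ∃ f : Fin n → Matrix.ProjectiveSpecialLinearGroup (Fin n) F, g = (List.ofFn fun i => f i * x * (f i)⁻¹).prod :=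
  Cfsg.Agent.H446.CovPsl.upper_of n hn H
end Cfsg.Agent.H166.Cov
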