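import Cfsg.Agent.H166.Cov.SL

/-!
# Scalar summands
-/

set_option autoImplicit false

namespace Cfsg.Agent.H166.Cov

open Module Polynomial

universe u

variable {F : Type u} [Field F] {V W U : Type u} [AddCommGroup V] [Module F V]
  [AddCommGroup W] [Module F W] [AddCommGroup U] [Module F U]

theorem sim_smul_one [FiniteDimensional F V] [FiniteDimensional F W] (l : F)
    (h : finrank F V = finrank F W) : Sim (l • (1 : End F V)) (l • (1 : End F W)) :=
  Cfsg.Agent.H71.CovScal.sim_smul_one l h

theorem Sim.prod_assoc (S : End F V) (T : End F W) (R : End F U) :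
    Sim ((S.prodMap T).prodMap R) (S.prodMap (T.prodMap R)) :=
  Cfsg.Agent.H269.CovDec.sim_prodAssoc S T R

theorem smul_one_prodMap (c : F) :
    (c • (1 : End F V)).prodMap (c • (1 : End F W)) = c • (1 : End F (V × W)) :=
  Cfsg.Agent.H71.CovScal.smul_prodMap c

theorem eq_smul_one_of_charpoly [FiniteDimensional F V] {T : End F V} {l : F}
    (h : LinearMap.charpoly T = X - C l) : T = l • (1 : End F V) := by
  have h1 := LinearMap.aeval_self_charpoly T
  rw [h, map_sub, aeval_X, aeval_C, sub_eq_zero] at h1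
  rw [h1, Algebra.algebraMap_eq_smul_one]

theorem dec_replicate {l : F} {L : List F[X]} (c : ℕ) : ∀ {m : ℕ} {T : End F (Fin m → F)},
    Dec (List.replicate c (X - C l) ++ L) T → ∃ (m₀ : ℕ) (T₀ : End F (Fin m₀ → F)), Dec L T₀ ∧
      m = c + m₀ ∧ Sim T ((l • (1 : End F (Fin c → F))).prodMap T₀) := by
  induction c with
  | zero =>
    intro m T h
    refine ⟨m, T, h, by omega, ?_⟩
    exact ((Sim.prod_comm _ _).trans (sim_prod_zero T (l • (1 : End F (Fin 0 → F))))).symm
  | succ c ih =>
    intro m T h
    rw [List.replicate_succ, List.cons_append] at h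
    obtain ⟨m₁, m₂, T₁, T₂, h1, h2, h3, h4⟩ := h
    obtain rfl : m₁ = 1 := by
      have := LinearMap.charpoly_natDegree T₁
      rw [h2, natDegree_X_sub_C, finrank_fin_fun] at this
      exact this.symm
    obtain ⟨m₀, T₀, g1, rfl, g2⟩ := ih h3
    have hm := h4.finrank
    rw [finrank_prod, finrank_fin_fun, finrank_fin_fun, finrank_fin_fun] at hm
    refine ⟨m₀, T₀, g1, by omega, ?_⟩
    rw [eq_smul_one_of_charpoly h2] at h4
    refine h4.trans (((Sim.refl _).prodMap g2).trans ((Sim.prod_assoc _ _ _).symm.trans ?_))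
    rw [smul_one_prodMap]
    refine (sim_smul_one l ?_).prodMap (Sim.refl _)
    rw [finrank_prod, finrank_fin_fun, finrank_fin_fun, finrank_fin_fun, add_comm]

theorem gen_lin [FiniteDimensional F W] (hW : 2 ≤ finrank F W) {T : End F W} (hT : NS T)
    (hT0 : LinearMap.det T ≠ 0) {l : F} (hl : l ≠ 0) {k : ℕ} (h : Gen T k l) (c : ℕ) :
    Gen ((l • (1 : End F (Fin c → F))).prodMap T) (c + k) l := by
  induction c with
  | zero =>
    rw [zero_add]
    exact h.sim ((Sim.prod_comm _ _).trans (sim_prod_zero T (l • (1 : End F (Fin 0 → F))))).symm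
  | succ c ih =>
    have h1 : Sim (up (l • (1 : End F F)) 0 ((l • (1 : End F (Fin c → F))).prodMap T))
        ((l • (1 : End F (Fin (c + 1) → F))).prodMap T) := by
      rw [← prodMap_eq_up]
      refine (Sim.prod_assoc _ _ _).symm.trans ?_
      rw [smul_one_prodMap]
      refine (sim_smul_one l ?_).prodMap (Sim.refl _)
      rw [finrank_prod, finrank_fin_fun, finrank_fin_fun, finrank_self, add_comm]
    have h2 := fun g hg hd => (peel (W := (Fin c → F) × W) (by
      rw [finrank_prod]; omega) (hT.prodMap_right _) hl (by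
        rw [LinearMap.det_prodMap, LinearMap.det_smul, map_one, mul_one]
        exact mul_ne_zero (pow_ne_zero _ hl) hT0) ih 0 (g := g) hg hd).hpn
    rw [show c + 1 + k = c + k + 1 by ring]
    exact Gen.sim h1 h2

theorem full_smul_one [FiniteDimensional F V] (hV : 0 < finrank F V) (l : F) :
    Full (l • (1 : End F V)) := by
  intro c hc
  obtain ⟨e, he⟩ := exists_det (F := F) (V := V) hV hc
  exact ⟨e, he, fun x => by simp⟩

end Cfsg.Agent.H166.Cov
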