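import Cfsg.Agent.H166.Cov.NF

/-!
# Main theorem: products of `n` conjugates
-/

set_option autoImplicit false

namespace Cfsg.Agent.H166.Cov

open Module Polynomial

universe u

variable {F : Type u} [Field F] {V W U : Type u} [AddCommGroup V] [Module F V]
  [AddCommGroup W] [Module F W] [AddCommGroup U] [Module F U]

theorem Good.of_halves {T : End F V} (h : GoodN T) (h' : GoodS T) : Good T := ⟨h, h'⟩

theorem full_of_odd {L : List F[X]} {m : ℕ} {T : End F (Fin m → F)} (hT : Dec L T)
    (hd : ∀ f ∈ L, 2 ≤ f.natDegree) (hL : 2 ≤ L.length) (hm : m = 2 * L.length + 1) : Full T := by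
  obtain ⟨f, hf, hf2⟩ : ∃ f ∈ L, f.natDegree = 2 := by
    by_contra hcon
    push Not at hcon
    have h1 : ∀ L : List F[X], (∀ f ∈ L, 3 ≤ f.natDegree) → 3 * L.length ≤ (L.map natDegree).sum := by
      intro L hL
      induction L with
      | nil => simp
      | cons a L ih =>
        rw [List.map_cons, List.sum_cons, List.length_cons]
        have := ih (fun f hf => hL f (List.mem_cons_of_mem _ hf))
        have := hL a List.mem_cons_self
        omega
    have h2 := h1 L fun f hf => by
      have := hd f hf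
      have := hcon f hf
      omega
    rw [dec_sum hT] at h2
    omega
  obtain ⟨L', hL'⟩ := perm_of_mem hf
  obtain ⟨m₂, T₁, T₂, h1, h2, h3, h4⟩ := dec_cons (hT.perm hL')
  have h5 := h4.finrank
  rw [finrank_prod, finrank_fin_fun, finrank_fin_fun, finrank_fin_fun] at h5
  refine Full.sim h4.symm (Full.of_coprime_finrank T₁ T₂ ?_)
  rw [finrank_fin_fun, finrank_fin_fun, hf2, Nat.coprime_two_left, Nat.odd_iff]
  omega

/-- a block of dimension at least three with an eigenvalue -/
theorem good_nf1 [Finite F] (hq : 4 ≤ Nat.card F) {f : F[X]} {L : List F[X]}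
    (hm : ∀ g ∈ f :: L, g.Monic) (hd : ∀ g ∈ f :: L, 2 ≤ g.natDegree) (hS : SQ f)
    (hf3 : 3 ≤ f.natDegree) {l : F} (hfl : f.eval l = 0) {m : ℕ} {T : End F (Fin m → F)}
    (hT : Dec (f :: L) T) (hT0 : LinearMap.det T ≠ 0) : Good T := by
  have hfm := hm f (by simp)
  have hlm := monic_X_sub_C l
  have hli := irreducible_X_sub_C l
  obtain ⟨r, hr⟩ := dvd_iff_isRoot.2 (show f.IsRoot l from hfl)
  have hlr := hS _ r hli hlm hr
  have hrm : r.Monic := hlm.of_mul_monic_left (hr ▸ hfm)
  have hrd : f.natDegree = 1 + r.natDegree := by rw [hr, hlm.natDegree_mul hrm, natDegree_X_sub_C]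
  have hl0 : l ≠ 0 := by
    rintro rfl
    apply coeff_ne_zero_dec hT hT0 f (by simp)
    rw [coeff_zero_eq_eval_zero, hfl]
  obtain ⟨m', P, R, T', h1, h2, h3, h4, h5⟩ := block_lift hlm hrm hr hT
  rw [natDegree_X_sub_C] at h1
  have hP := eq_smul_one_of_charpoly h4
  obtain ⟨R', h6⟩ := Sim.up (P := P) (P' := l • (1 : End F F)) R (by
    rw [hP]
    exact sim_smul_one l (by rw [finrank_fin_fun, natDegree_X_sub_C, finrank_self])) (Sim.refl T')
  have h7 := h2.trans h6
  have hd' : ∀ g ∈ r :: L, 2 ≤ g.natDegree := by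
    intro g hg
    rcases List.mem_cons.1 hg with rfl | hg
    · omega
    · exact hd g (List.mem_cons_of_mem _ hg)
  have hne : r :: L ≠ [] := by simp
  have hns := h5.ns hne hd'
  have hle := h5.le hd'
  rw [List.length_cons] at hle
  have hT'0 : LinearMap.det T' ≠ 0 := by
    intro h
    rw [h7.det, det_up, h, mul_zero] at hT0
    exact hT0 rfl
  have hfr : finrank F (Fin m' → F) = m' := finrank_fin_fun F
  by_cases hm3 : m' = 2
  · -- dimension three
    have hL0 : L = [] := List.length_eq_zero_iff.1 (by omega)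
    subst hL0
    obtain ⟨g1, g2⟩ := dec_single hT
    obtain ⟨s, hs⟩ := hlr
    have hsm : s.Monic := hlm.of_mul_monic_left (hs ▸ hrm)
    have hrd2 : r.natDegree = 1 + s.natDegree := by rw [hs, hlm.natDegree_mul hsm, natDegree_X_sub_C]
    have hfd : f.natDegree = m := by rw [← g2, LinearMap.charpoly_natDegree, finrank_fin_fun]
    obtain ⟨μ, hμ⟩ := lin_form hsm (by omega)
    have h8 := hS (X - C μ) ((X - C l) * (X - C l)) (irreducible_X_sub_C μ) (monic_X_sub_C μ)
      (by rw [hr, hs, hμ]; ring)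
    have h9 : (X - C μ) ∣ (X - C l) :=
      ((irreducible_X_sub_C μ).prime.dvd_or_dvd h8).elim id id
    have h10 := monic_dvd_eq (irreducible_X_sub_C μ) hli (monic_X_sub_C μ) hlm h9
    exact good_three hq (by rw [finrank_fin_fun]; omega) hl0 g1
      (by rw [g2, hr, hs, hμ, h10]; ring)
  · have hm2 : 3 ≤ m' := by omega
    have hN : GoodN T := (nf1_n (by rw [hfr]; omega) hns hl0 hT'0 (by
      rw [hfr]
      exact h5.gen hq hne hd' hT'0 hm2 (fun _ => by rw [List.length_cons]; omega) l) R').sim h7.symm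
    by_cases hc1 : 4 ≤ m' ∧ 2 * (L.length + 1) + 1 ≤ m'
    · refine Good.of_halves hN ((nf1_s (k := m' - 1) (by rw [hfr]; omega) hns hl0 hT'0
        (by rw [hfr]; omega) ?_ R').sim h7.symm)
      exact h5.gen hq hne hd' hT'0 (by omega) (fun _ => by rw [List.length_cons]; omega) l
    · by_cases hc2 : L = []
      · subst hc2
        obtain ⟨g1, g2⟩ := dec_single hT
        by_cases hm4 : m' = 3
        · have hfd : f.natDegree = m := by rw [← g2, LinearMap.charpoly_natDegree, finrank_fin_fun]
          obtain ⟨q, hqm, hqd, hq2⟩ := sq_four hfm (by omega) hS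
          exact Good.of_halves hN (goodS_four (by rw [finrank_fin_fun]; omega) g1 hT0 hqm hqd
            (by rw [g2, hq2]))
        · refine Good.of_halves hN ((nf1_s (k := m' - 1) (by rw [hfr]; omega) hns hl0 hT'0
            (by rw [hfr]; omega) ?_ R').sim h7.symm)
          exact h5.gen hq hne hd' hT'0 (by omega) (fun h => by simp at h) l
      · have hL1 := List.length_pos_iff.2 hc2
        have hm5 : m = 2 * (f :: L).length + 1 := by rw [List.length_cons]; omega
        refine Good.of_full (full_of_odd hT hd (by rw [List.length_cons]; omega) hm5) ?_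
        refine goodG_gen hq (by simp) hd (by rw [List.length_cons] at hm5; omega) hT hT0 fun h => ?_
        rw [List.length_cons] at hm5 h
        omega

/-- no eigenvalues at all -/
theorem good_nf2 [Finite F] (hq : 4 ≤ Nat.card F) {f : F[X]} {L : List F[X]}
    (hm : ∀ g ∈ f :: L, g.Monic) (hd : ∀ g ∈ f :: L, 2 ≤ g.natDegree) (hS : ∀ g ∈ f :: L, SQ g)
    (hr : ∀ g ∈ f :: L, ∀ l : F, g.eval l ≠ 0) {m : ℕ} {T : End F (Fin m → F)}
    (hT : Dec (f :: L) T) (hT0 : LinearMap.det T ≠ 0) : Good T := by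
  have hfac : ∀ g ∈ f :: L, ∃ p r : F[X], p.Monic ∧ Irreducible p ∧ r.Monic ∧ g = p * r ∧
      2 ≤ p.natDegree ∧ p.natDegree ≤ r.natDegree ∧ g.natDegree = p.natDegree + r.natDegree := by
    intro g hg
    obtain ⟨p, hpm, hp, r, h1⟩ := exists_monic_irreducible_factor g (fun h => by
      have := natDegree_eq_zero_of_isUnit h
      have := hd g hg
      omega)
    have hrm : r.Monic := hpm.of_mul_monic_left (h1 ▸ hm g hg)
    refine ⟨p, r, hpm, hp, hrm, h1, ?_, natDegree_le_of_dvd (hS g hg p r hp hpm h1) hrm.ne_zero,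
      by rw [h1, hpm.natDegree_mul hrm]⟩
    by_contra hcon
    have h2 := hp.natDegree_pos
    obtain ⟨a, ha⟩ := lin_form hpm (by omega)
    apply hr g hg a
    rw [h1, ha]
    simp
  have hd4 : ∀ g ∈ f :: L, 4 ≤ g.natDegree := by
    intro g hg
    obtain ⟨p, r, -, -, -, -, h1, h2, h3⟩ := hfac g hg
    omega
  have hm4 : 4 * (L.length + 1) ≤ m := by
    have h1 : ∀ L : List F[X], (∀ f ∈ L, 4 ≤ f.natDegree) → 4 * L.length ≤ (L.map natDegree).sum := by
      intro L hL
      induction L with
      | nil => simp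
      | cons a L ih =>
        rw [List.map_cons, List.sum_cons, List.length_cons]
        have := ih (fun f hf => hL f (List.mem_cons_of_mem _ hf))
        have := hL a List.mem_cons_self
        omega
    have h2 := h1 _ hd4
    rw [dec_sum hT, List.length_cons] at h2
    exact h2
  obtain ⟨p, r, hpm, hp, hrm, hfpr, hpd, hpr, hfd⟩ := hfac f (by simp)
  obtain ⟨m', P, R, T', h1, h2, h3, h4, h5⟩ := block_lift hpm hrm hfpr hT
  have hd' : ∀ g ∈ r :: L, 2 ≤ g.natDegree := by
    intro g hg
    rcases List.mem_cons.1 hg with rfl | hg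
    · omega
    · exact hd g (List.mem_cons_of_mem _ hg)
  have hne : r :: L ≠ [] := by simp
  have hns := h5.ns hne hd'
  have hle := h5.le hd'
  rw [List.length_cons] at hle
  have hdd := h2.det
  rw [det_up] at hdd
  rw [hdd] at hT0
  have hT'0 := right_ne_zero_of_mul hT0
  have hP0 := left_ne_zero_of_mul hT0
  have hPF : Full P := Full.of_irreducible (by rw [h4]; exact hp)
  have hfr : finrank F ((Fin p.natDegree → F) × (Fin m' → F)) = m := by
    rw [finrank_prod, finrank_fin_fun, finrank_fin_fun, h1]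
  have hup0 : LinearMap.det (up P R T') ≠ 0 := by rw [det_up]; exact hT0
  have hpfr : 2 ≤ finrank F (Fin p.natDegree → F) := by rw [finrank_fin_fun]; exact hpd
  have hm'fr : 2 ≤ finrank F (Fin m' → F) := by rw [finrank_fin_fun]; omega
  by_cases hL : L = []
  · subst hL
    obtain ⟨g1, g2⟩ := dec_single h5
    have h6 := (pair_two hq hpfr hm'fr h3 hP0 g1 hT'0).sns hPF R
    rw [List.length_nil] at hm4
    have hN := (h6.goodN hq (by rw [hfr]; omega) (hns.up_right P R) hup0 (by rw [hfr]; omega)).sim h2.symm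
    by_cases hm5 : m = 4
    · obtain ⟨g3, g4⟩ := dec_single hT
      have hfd' : f.natDegree = m := by rw [← g4, LinearMap.charpoly_natDegree, finrank_fin_fun]
      obtain ⟨q, hqm, hqd, hq2⟩ := sq_four (hm f (by simp)) (by omega) (hS f (by simp))
      exact Good.of_halves hN (goodS_four (by rw [finrank_fin_fun]; omega) g3 (by rw [hdd]; exact hT0)
        hqm hqd (by rw [g4, hq2]))
    · exact Good.of_halves hN ((h6.goodS hq (by rw [hfr]; omega) (hns.up_right P R) hup0
        (by rw [hfr]; omega)).sim h2.symm)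
  · have hL1 := List.length_pos_iff.2 hL
    have h6 := (pair_add hq hpfr hm'fr h3 hP0 hns hT'0 (a := L.length + 1) (by omega)
      (h5.sn hq hne hd' hT'0 (by omega) (by rw [List.length_cons]))).sns hPF R
    exact Good.of_halves
      ((h6.goodN hq (by rw [hfr]; omega) (hns.up_right P R) hup0 (by rw [hfr]; omega)).sim h2.symm)
      ((h6.goodS hq (by rw [hfr]; omega) (hns.up_right P R) hup0 (by rw [hfr]; omega)).sim h2.symm)

theorem good_nf [Finite F] (hq : 4 ≤ Nat.card F) {L : List F[X]} (hL : L ≠ [])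
    (hm : ∀ f ∈ L, f.Monic) (hd : ∀ f ∈ L, 2 ≤ f.natDegree)
    (hpw : L.Pairwise (fun f g => ¬ IsCoprime f g))
    (h2 : ∀ f ∈ L, ∀ g ∈ L, f.natDegree = 2 → g.natDegree = 2 → f = g) (hS : ∀ f ∈ L, SQ f)
    {m : ℕ} (hm3 : 3 ≤ m) {T : End F (Fin m → F)} (hT : Dec L T) (hT0 : LinearMap.det T ≠ 0) :
    Good T := by
  by_cases hroot : ∃ f ∈ L, ∃ l : F, f.eval l = 0
  · by_cases hbig : ∃ f ∈ L, 3 ≤ f.natDegree ∧ ∃ l : F, f.eval l = 0
    · obtain ⟨f, hf, hf3, l, hfl⟩ := hbig
      obtain ⟨L', hL'⟩ := perm_of_mem hf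
      exact good_nf1 hq (fun g hg => hm g (hL'.mem_iff.2 hg)) (fun g hg => hd g (hL'.mem_iff.2 hg))
        (hS f hf) hf3 hfl (hT.perm hL') hT0
    · push Not at hbig
      obtain ⟨f, hf, l, hfl⟩ := hroot
      have hf2 : f.natDegree = 2 := by
        by_contra hne
        exact hbig f hf (by have := hd f hf; omega) l hfl
      obtain ⟨β, hβ⟩ := quad_split (hm f hf) hf2 hfl
      have h3 := hS f hf _ _ (irreducible_X_sub_C l) (monic_X_sub_C l) hβ
      have h4 := monic_dvd_eq (irreducible_X_sub_C l) (irreducible_X_sub_C β) (monic_X_sub_C l)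
        (monic_X_sub_C β) h3
      rw [← h4, ← pow_two] at hβ
      obtain ⟨L', hL'⟩ := perm_of_mem hf
      have hpw' := (hL'.pairwise_iff (fun {x y} h h' => h h'.symm)).1 hpw
      have h5 : ∀ g ∈ L, g = (X - C l) ^ 2 := by
        intro g hg
        rcases List.mem_cons.1 (hL'.mem_iff.1 hg) with rfl | hg'
        · exact hβ
        · have h6 := (List.pairwise_cons.1 hpw').1 g hg'
          have h7 : g.eval l = 0 := by
            by_contra h7
            apply h6
            rw [hβ]
            refine IsCoprime.pow_left ?_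
            rw [(irreducible_X_sub_C l).coprime_iff_not_dvd, dvd_iff_isRoot]
            exact h7
          have h8 : g.natDegree = 2 := by
            by_contra hne
            exact hbig g hg (by have := hd g hg; omega) l h7
          rw [h2 g hg f hf h8 hf2, hβ]
      have hl0 : l ≠ 0 := by
        rintro rfl
        apply coeff_ne_zero_dec hT hT0 f hf
        rw [coeff_zero_eq_eval_zero, hfl]
      have h6 : m = 2 * L.length := by
        have h7 : ∀ L : List F[X], (∀ f ∈ L, f.natDegree = 2) → (L.map natDegree).sum = 2 * L.length := by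
          intro L hL
          induction L with
          | nil => simp
          | cons a L ih =>
            rw [List.map_cons, List.sum_cons, List.length_cons,
              ih fun f hf => hL f (List.mem_cons_of_mem _ hf), hL a List.mem_cons_self]
            ring
        rw [← dec_sum hT]
        exact h7 L fun g hg => by
          rw [h5 g hg, (monic_X_sub_C l).natDegree_pow, natDegree_X_sub_C, mul_one]
      exact good_sq hq hl0 hT hT0 (by omega) h5
  · push Not at hroot
    obtain ⟨f, L, rfl⟩ := List.exists_cons_of_ne_nil hL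
    exact good_nf2 hq hm hd hS hroot hT hT0

theorem good_main [Finite F] (hq : 4 ≤ Nat.card F) {m : ℕ} (hm3 : 3 ≤ m) {T : End F (Fin m → F)}
    (hns : NS T) (hT0 : LinearMap.det T ≠ 0) : Good T := by
  classical
  obtain ⟨L, hT, hL1, hpw, hL2⟩ := exists_dec T
  have hne : L ≠ [] := by
    rintro rfl
    have : m = 0 := hT
    omega
  set L₁ := L.filter (fun f => f.natDegree = 1) with hL₁
  set L₀ := L.filter (fun f => ¬ f.natDegree = 1) with hL₀
  have hperm : L.Perm (L₁ ++ L₀) := by
    have h := List.filter_append_perm (fun f : F[X] => decide (f.natDegree = 1)) L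
    have h1 : L₀ = L.filter (fun x => !decide (x.natDegree = 1)) := by
      rw [hL₀]
      congr 1
      ext f
      simp
    rw [h1]
    exact h.symm
  have hmem₀ : ∀ f ∈ L₀, f ∈ L ∧ f.natDegree ≠ 1 := fun f hf => by
    have := List.mem_filter.1 hf
    exact ⟨this.1, by simpa using this.2⟩
  have hmem₁ : ∀ f ∈ L₁, f ∈ L ∧ f.natDegree = 1 := fun f hf => by
    have := List.mem_filter.1 hf
    exact ⟨this.1, by simpa using this.2⟩
  have hd₀ : ∀ f ∈ L₀, 2 ≤ f.natDegree := fun f hf => by
    obtain ⟨h1, h2⟩ := hmem₀ f hf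
    have := (hL1 f h1).2
    omega
  by_cases hc : L₁ = []
  · -- no scalar summand
    rw [hc, List.nil_append] at hperm
    have hd : ∀ f ∈ L, 2 ≤ f.natDegree := fun f hf => hd₀ f (hperm.mem_iff.1 hf)
    have hmon : ∀ f ∈ L, f.Monic := fun f hf => (hL1 f hf).1
    by_cases hE : ∃ f ∈ L, ∃ p r : F[X], Irreducible p ∧ p.Monic ∧ f = p * r ∧ IsCoprime p r
    · obtain ⟨f, hf, p, r, hp, hpm, hfp, hco⟩ := hE
      exact Good.of_full (full_of_split hT hf (hmon f hf) hp hpm hfp hco)
        (goodG_zero hq hne hmon hd hL2 hm3 hT hT0 hf hp hpm hfp hco)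
    · push Not at hE
      refine good_nf hq hne hmon hd hpw hL2 (fun f hf p r hp hpm hfp => ?_) hm3 hT hT0
      by_contra h
      exact hE f hf p r hp hpm hfp (hp.coprime_iff_not_dvd.2 h)
  · obtain ⟨f₀, L', hL'⟩ := List.exists_cons_of_ne_nil hc
    have hf₀ := hmem₁ f₀ (by rw [hL']; simp)
    obtain ⟨l, hl⟩ := lin_form (hL1 f₀ hf₀.1).1 hf₀.2
    have hpw' := (hperm.pairwise_iff (fun {x y} h h' => h h'.symm)).1 hpw
    rw [hL', List.cons_append, List.pairwise_cons] at hpw'
    have hroot : ∀ g ∈ L' ++ L₀, g.eval l = 0 := by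
      intro g hg
      by_contra h
      apply hpw'.1 g hg
      rw [hl, (irreducible_X_sub_C l).coprime_iff_not_dvd, dvd_iff_isRoot]
      exact h
    have hrep : L₁ = List.replicate L₁.length (X - C l) := by
      rw [List.eq_replicate_iff]
      refine ⟨rfl, fun g hg => ?_⟩
      have hg' := hmem₁ g hg
      obtain ⟨a, ha⟩ := lin_form (hL1 g hg'.1).1 hg'.2
      rw [hL'] at hg
      rcases List.mem_cons.1 hg with rfl | hg
      · exact hl
      · have h1 := hroot g (List.mem_append_left _ hg)
        rw [ha, eval_sub, eval_X, eval_C, sub_eq_zero] at h1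
        rw [ha, h1]
    have hc1 : 1 ≤ L₁.length := List.length_pos_iff.2 hc
    rw [hrep] at hperm
    generalize L₁.length = c at hperm hc1
    obtain ⟨m₀, T₀, h1, h2, h3⟩ := dec_replicate c (hT.perm hperm)
    have hdet := h3.det
    rw [LinearMap.det_prodMap, LinearMap.det_smul, map_one, mul_one, finrank_fin_fun] at hdet
    rw [hdet] at hT0
    have hT₀0 := right_ne_zero_of_mul hT0
    have hl0 : l ≠ 0 := by
      rintro rfl
      exact left_ne_zero_of_mul hT0 (zero_pow (by omega))
    have hne₀ : L₀ ≠ [] := by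
      intro h
      rw [h] at h1
      obtain rfl : m₀ = 0 := h1
      refine hns l ?_
      have h4 := (h3.trans (sim_prod_zero (l • (1 : End F (Fin c → F))) T₀)).symm
      obtain ⟨e, he⟩ := h4
      refine LinearMap.ext fun x => ?_
      obtain ⟨y, rfl⟩ := e.surjective x
      rw [← he]
      simp
    have hfull : Full ((l • (1 : End F (Fin c → F))).prodMap T₀) :=
      Full.prodMap_left T₀ (full_smul_one (by rw [finrank_fin_fun]; omega) l)
    exact (Good.of_full hfull (goodG_lin hq hl0 hc1 hne₀ (fun f hf => (hL1 f (hmem₀ f hf).1).1) hd₀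
      (fun f hf => hroot f (List.mem_append_right _ hf))
      (fun f hf g hg => hL2 f (hmem₀ f hf).1 g (hmem₀ g hg).1) h1 hT₀0)).sim h3.symm

theorem main [Finite F] (hq : 4 ≤ Nat.card F) {n : ℕ} (hn : 3 ≤ n) (T g : End F (Fin n → F))
    (hT : LinearMap.det T = 1) (hns : NS T) (hg : LinearMap.det g = 1) :
    ∃ z : F, z ≠ 0 ∧ HPS T n (z • g) := by
  obtain ⟨h1, z, hz, h2⟩ := good_main hq hn hns (by rw [hT]; exact one_ne_zero)
  rw [finrank_fin_fun] at h1 h2
  by_cases hgs : NS g
  · exact ⟨1, one_ne_zero, by rw [one_smul]; exact h1 g hgs (by rw [hg, hT, one_pow])⟩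
  · unfold NS at hgs
    push Not at hgs
    obtain ⟨c, hc⟩ := hgs
    have hc0 : c ≠ 0 := by
      rintro rfl
      rw [hc, LinearMap.det_smul, zero_pow (by rw [finrank_fin_fun]; omega), zero_mul] at hg
      exact zero_ne_one hg
    exact ⟨z * c⁻¹, mul_ne_zero hz (inv_ne_zero hc0), by
      rw [hc, smul_smul, mul_assoc, inv_mul_cancel₀ hc0, mul_one]; exact h2⟩

end Cfsg.Agent.H166.Cov
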