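import Cfsg.Agent.H166.Cov.NFLem

/-!
# No scalar summand, centralizer not full: the cases
-/

set_option autoImplicit false

namespace Cfsg.Agent.H166.Cov

open Module Polynomial

universe u

variable {F : Type u} [Field F] {V W U : Type u} [AddCommGroup V] [Module F V]
  [AddCommGroup W] [Module F W] [AddCommGroup U] [Module F U]

theorem nf1_n [FiniteDimensional F W] (hW : 2 ≤ finrank F W) {T : End F W} (hT : NS T) {l : F}
    (hl : l ≠ 0) (hT0 : LinearMap.det T ≠ 0) (h : Gen T (finrank F W) l) (R : W →ₗ[F] F) :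
    GoodN (up (l • (1 : End F F)) R T) := by
  intro g hg hd
  have hfr : finrank F (F × W) = finrank F W + 1 := by rw [finrank_prod, finrank_self, add_comm]
  rw [hfr] at hd ⊢
  exact (peel hW hT hl hT0 h R hg hd).hps

theorem NS.up_right (P : End F U) (R : W →ₗ[F] U) {T : End F W} (hT : NS T) : NS (up P R T) := by
  intro c hc
  apply hT c
  refine LinearMap.ext fun y => ?_
  have h1 := congrArg Prod.snd (LinearMap.congr_fun hc (0, y))
  rw [up_apply] at h1
  simpa using h1

theorem nf1_s [FiniteDimensional F W] (hW : 2 ≤ finrank F W) {T : End F W} (hT : NS T) {l : F}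
    (hl : l ≠ 0) (hT0 : LinearMap.det T ≠ 0) {k : ℕ} (hk : finrank F W = k + 1) (h : Gen T k l)
    (R : W →ₗ[F] F) : GoodS (up (l • (1 : End F F)) R T) := by
  have hfr : finrank F (F × W) = k + 1 + 1 := by rw [finrank_prod, finrank_self, add_comm, hk]
  have hd0 : LinearMap.det (up (l • (1 : End F F)) R T) ≠ 0 := by
    rw [det_up, det_smul_one]
    exact mul_ne_zero hl hT0
  refine ⟨_, hd0, ?_⟩
  rw [hfr]
  exact scalar_of_ns (hT.up_right _ _) hd0 (fun g hg hd => (peel hW hT hl hT0 h R hg hd).hps) hd0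
    (by rw [hfr])

/-- a pair of coprime cyclic elements, one of them nice -/
def PairOK [FiniteDimensional F U] [FiniteDimensional F W] (P : End F U) (T : End F W) (a : ℕ) : Prop :=
  ∃ (ν : F) (A : End F U) (B : End F W), Coc A ∧ Coc B ∧
    IsCoprime (LinearMap.charpoly A) (LinearMap.charpoly B) ∧ (Nice ν A ∨ Nice ν B) ∧ HP P a A ∧ HP T a B

theorem PairOK.sns [FiniteDimensional F U] [FiniteDimensional F W] {P : End F U} {T : End F W} {a : ℕ}
    (h : PairOK P T a) (hP : Full P) (R : W →ₗ[F] U) : SNS (up P R T) a := by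
  obtain ⟨ν, A, B, h1, h2, h3, h4, h5, h6⟩ := h
  obtain ⟨R', h7⟩ := plift hP R h5 h6
  refine ⟨ν, _, ?_, h7⟩
  rcases h4 with h4 | h4
  · exact h4.up_left R' h2 h3
  · exact h4.up_right R' h1 h3

theorem pair_add [Finite F] (hq : 4 ≤ Nat.card F) [FiniteDimensional F V] [FiniteDimensional F W]
    (hn : 2 ≤ finrank F V) (hm : 2 ≤ finrank F W) {T : End F V} {S : End F W} (hT : Coc T)
    (hT0 : LinearMap.det T ≠ 0) (hS : NS S) (hS0 : LinearMap.det S ≠ 0) {a : ℕ} (ha : 2 ≤ a)
    (h : SN S a) : PairOK T S (a + 1) := by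
  obtain ⟨X, h1, h2, h3⟩ := exists_rootless_end (V := V) hn (δ := LinearMap.det T ^ (a + 1))
    (pow_ne_zero _ hT0)
  obtain ⟨ν, M, h1', h2', h3', h4'⟩ := exists_nice_end (V := W) hq hm
    (δ := LinearMap.det S ^ (a + 1)) (pow_ne_zero _ hS0) 0
  exact ⟨ν, X, M, h1, h2'.coc, (h4' _ h3).symm, Or.inr h2',
    (hT.gen hq hn hT0 (by omega) 0 X (h1.ns hn) h2).hp, h.all hq hm hS hS0 h2' h3'⟩

theorem pair_two [Finite F] (hq : 4 ≤ Nat.card F) [FiniteDimensional F V] [FiniteDimensional F W]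
    (hn : 2 ≤ finrank F V) (hm : 2 ≤ finrank F W) {T : End F V} {S : End F W} (hT : Coc T)
    (hT0 : LinearMap.det T ≠ 0) (hS : Coc S) (hS0 : LinearMap.det S ≠ 0) : PairOK T S 2 := by
  by_cases h : finrank F V = 2 ∧ finrank F W = 2
  · obtain ⟨X, h1, h2, h3⟩ := exists_rootless_end (V := V) hn (δ := LinearMap.det T ^ 2)
      (pow_ne_zero _ hT0)
    obtain ⟨ν, M, h1', h2', h3', h4'⟩ := exists_nice_end (V := W) hq hm
      (δ := LinearMap.det S ^ 2) (pow_ne_zero _ hS0) 0
    exact ⟨ν, X, M, h1, h2'.coc, (h4' _ h3).symm, Or.inr h2',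
      elliptic h.1 h3 (hT.ns hn) h2, hS.hp_nice hq hm hS0 le_rfl h2' h3'⟩
  · obtain ⟨ν₁, ν₂, p₁, p₂, hν, h1, h2, h3, h4, h1', h2', h3', h4', h5⟩ := exists_pair hq hn hm h
      (pow_ne_zero 2 hT0) (pow_ne_zero 2 hS0)
    obtain ⟨M, hM, hMc⟩ := exists_coc (F := F) (V := V) (f := (X - C ν₁) * p₁)
      ((monic_X_sub_C ν₁).mul h1)
      (by rw [(monic_X_sub_C ν₁).natDegree_mul h1, natDegree_X_sub_C, h2]; omega)
    obtain ⟨M', hM', hMc'⟩ := exists_coc (F := F) (V := W) (f := (X - C ν₂) * p₂)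
      ((monic_X_sub_C ν₂).mul h1')
      (by rw [(monic_X_sub_C ν₂).natDegree_mul h1', natDegree_X_sub_C, h2']; omega)
    have hN : Nice ν₁ M := ⟨hM, p₁, hMc, h3⟩
    have hN' : Nice ν₂ M' := ⟨hM', p₂, hMc', h3'⟩
    have hd : LinearMap.det M = LinearMap.det T ^ 2 := by
      rw [det_eq_charpoly, hMc, h4, ← mul_assoc, ← mul_pow]
      simp
    have hd' : LinearMap.det M' = LinearMap.det S ^ 2 := by
      rw [det_eq_charpoly, hMc', h4', ← mul_assoc, ← mul_pow]
      simp
    exact ⟨ν₁, M, M', hM, hM', by rw [hMc, hMc']; exact h5, Or.inl hN,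
      hT.hp_nice hq hn hT0 le_rfl hN hd, hS.hp_nice hq hm hS0 le_rfl hN' hd'⟩

theorem SNS.goodN [Finite F] (hq : 4 ≤ Nat.card F) [FiniteDimensional F V] (hn : 2 ≤ finrank F V)
    {T : End F V} (hT : NS T) (hT0 : LinearMap.det T ≠ 0) {a : ℕ} (h : SNS T a)
    (ha : 2 * a ≤ finrank F V) : GoodN T := fun _ hg hd => h.ns hq hn hT hT0 ha hg hd

theorem SNS.goodS [Finite F] (hq : 4 ≤ Nat.card F) [FiniteDimensional F V] (hn : 2 ≤ finrank F V)
    {T : End F V} (hT : NS T) (hT0 : LinearMap.det T ≠ 0) {a : ℕ} (h : SNS T a)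
    (ha : 2 * a + 1 ≤ finrank F V) : GoodS T := by
  obtain ⟨k, hk⟩ : ∃ k, finrank F V = k + 1 := ⟨finrank F V - 1, by omega⟩
  refine ⟨_, hT0, ?_⟩
  rw [hk]
  exact scalar_of_ns hT hT0 (fun g hg hd => h.ns hq hn hT hT0 (by omega) hg hd) hT0 (by rw [hk])

theorem goodS_four [FiniteDimensional F V] (hV : finrank F V = 4) {T : End F V} (hT : Coc T)
    (hT0 : LinearMap.det T ≠ 0) {q : F[X]} (hq : q.Monic) (hqd : q.natDegree = 2)
    (hc : LinearMap.charpoly T = q ^ 2) : GoodS T := by
  have hb : q.coeff 0 ≠ 0 := by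
    intro h
    apply hT0
    rw [det_eq_charpoly, hc, pow_two, mul_coeff_zero, h, zero_mul, mul_zero]
  rw [quad_form hq hqd] at hc
  obtain ⟨T', h1, h2⟩ := sims_real hV hT hb hc
  have h3 : HPS T (1 + 1) (q.coeff 0 • (1 : End F V)) := by
    rw [← h2]
    exact (HPS.one (SimS.refl T)).mul (HPS.one h1)
  refine ⟨_, mul_ne_zero hb hb, ?_⟩
  rw [hV]
  exact h3.scal_mul h3

theorem good_three [Finite F] (hq : 4 ≤ Nat.card F) [FiniteDimensional F V] (hV : finrank F V = 3)
    {T : End F V} {l : F} (hl : l ≠ 0) (hT : Coc T) (hc : LinearMap.charpoly T = (X - C l) ^ 3) :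
    Good T := by
  refine ⟨fun g hg hd => ?_, l ^ 3, pow_ne_zero _ hl, ?_⟩
  · rw [hV] at hd ⊢
    exact hps_three hq hV hl hT hc hg hd
  · rw [hV]
    exact hps_three_scalar hq hV hl hT hc

/-- all blocks are Jordan blocks of size two -/
theorem good_sq [Finite F] (hq : 4 ≤ Nat.card F) {l : F} (hl : l ≠ 0) {L : List F[X]} {m : ℕ}
    {T : End F (Fin m → F)} (hT : Dec L T) (hT0 : LinearMap.det T ≠ 0) (hL : 2 ≤ L.length) (hLf : ∀ f ∈ L, f = (X - C l) ^ 2) :
    Good T := by
  have hdeg : ∀ f ∈ L, f.natDegree = 2 := fun f hf => by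
    rw [hLf f hf, (monic_X_sub_C l).natDegree_pow, natDegree_X_sub_C, mul_one]
  have hm : m = 2 * L.length := by
    rw [← dec_sum hT]
    have h1 : ∀ L : List F[X], (∀ f ∈ L, f.natDegree = 2) → (L.map natDegree).sum = 2 * L.length := by
      intro L hL
      induction L with
      | nil => simp
      | cons a L ih =>
        rw [List.map_cons, List.sum_cons, List.length_cons, ih fun f hf => hL f (List.mem_cons_of_mem _ hf),
          hL a List.mem_cons_self]
        ring
    exact h1 L hdeg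
  have hne : L ≠ [] := by
    rintro rfl
    simp at hL
  have hns := hT.ns hne fun f hf => (hdeg f hf).ge
  set N : End F (Fin m → F) := l⁻¹ • (T - l • 1) with hN
  have hTN : T = l • (1 + N) := by
    rw [hN, smul_add, smul_smul, mul_inv_cancel₀ hl, one_smul, add_sub_cancel]
  have hNN : N * N = 0 := by
    have h1 : aeval T ((X - C l) ^ 2) = 0 := aeval_dec hT fun f hf => (hLf f hf) ▸ dvd_rfl
    rw [map_pow, map_sub, aeval_X, aeval_C, Algebra.algebraMap_eq_smul_one, pow_two] at h1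
    rw [hN, smul_mul_smul_comm, h1, smul_zero]
  have hr : finrank F (LinearMap.range N) = L.length := by
    have h1 := ker_dec hT hLf
    have h2 : LinearMap.ker N = LinearMap.ker (T - l • (1 : End F (Fin m → F))) := by
      ext x
      rw [hN, LinearMap.mem_ker, LinearMap.mem_ker, LinearMap.smul_apply, smul_eq_zero]
      exact ⟨fun h => h.resolve_left (inv_ne_zero hl), Or.inr⟩
    have h3 := LinearMap.finrank_range_add_finrank_ker N
    rw [h2, h1, finrank_fin_fun] at h3
    omega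
  have hV : finrank F (Fin m → F) = 2 * L.length := by rw [finrank_fin_fun, hm]
  obtain ⟨M, ν, h1, h2⟩ := exists_nice_sq_zero hq hL hV hNN hr hl
  rw [← hTN] at h2
  have hS : SNS T 2 := ⟨ν, M, h1, h2⟩
  refine ⟨hS.goodN hq (by omega) hns hT0 (by omega), ?_⟩
  by_cases h4 : L.length = 2
  · have h5 := sims_sq_zero (by rw [hV, h4]) hNN (by rw [hr, h4]) l
    rw [← hTN] at h5
    have h6 : HPS T (1 + 1) ((l * l) • (1 : End F (Fin m → F))) := by
      have h7 : T * (l • (1 - N)) = (l * l) • (1 : End F (Fin m → F)) := by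
        conv_lhs => rw [hTN]
        rw [smul_mul_smul_comm, mul_sub, mul_one, add_mul, one_mul, hNN, add_zero, add_sub_cancel_right]
      rw [← h7]
      exact (HPS.one (SimS.refl T)).mul (HPS.one h5)
    refine ⟨_, mul_ne_zero (mul_ne_zero hl hl) (mul_ne_zero hl hl), ?_⟩
    rw [hV, h4]
    exact h6.scal_mul h6
  · exact hS.goodS hq (by omega) hns hT0 (by omega)

/-- every irreducible factor occurs at least twice -/
def SQ (f : F[X]) : Prop := ∀ p r : F[X], Irreducible p → p.Monic → f = p * r → p ∣ r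

theorem monic_dvd_eq {p q : F[X]} (hp : Irreducible p) (hq : Irreducible q) (hpm : p.Monic)
    (hqm : q.Monic) (h : p ∣ q) : p = q :=
  eq_of_monic_of_associated hpm hqm (hp.associated_of_dvd hq h)

theorem sq_four {f : F[X]} (hf : f.Monic) (hd : f.natDegree = 4) (hS : SQ f) :
    ∃ q : F[X], q.Monic ∧ q.natDegree = 2 ∧ f = q ^ 2 := by
  obtain ⟨p, hpm, hp, r, hr⟩ := exists_monic_irreducible_factor f (fun h => by
    have := natDegree_eq_zero_of_isUnit h
    omega)
  obtain ⟨s, hs⟩ := hS p r hp hpm hr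
  have hrm : r.Monic := hpm.of_mul_monic_left (hr ▸ hf)
  have hsm : s.Monic := hpm.of_mul_monic_left (hs ▸ hrm)
  have hd1 : f.natDegree = p.natDegree + (p.natDegree + s.natDegree) := by
    rw [hr, hs, hpm.natDegree_mul (hpm.mul hsm), hpm.natDegree_mul hsm]
  have hpd := hp.natDegree_pos
  by_cases hp2 : p.natDegree = 2
  · have hs1 : s = 1 := hsm.natDegree_eq_zero.1 (by omega)
    exact ⟨p, hpm, hp2, by rw [hr, hs, hs1, mul_one, pow_two]⟩
  · obtain ⟨p', hpm', hp', t, ht⟩ := exists_monic_irreducible_factor s (fun h => by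
      have := natDegree_eq_zero_of_isUnit h
      omega)
    have htm : t.Monic := hpm'.of_mul_monic_left (ht ▸ hsm)
    have hd2 : s.natDegree = p'.natDegree + t.natDegree := by rw [ht, hpm'.natDegree_mul htm]
    have hpd' := hp'.natDegree_pos
    have h1 := hS p' (p * p * t) hp' hpm' (by rw [hr, hs, ht]; ring)
    by_cases hpp : p' = p
    · subst hpp
      have htd : t.natDegree = 1 := by omega
      have hti : Irreducible t := irreducible_of_degree_eq_one (by
        rw [degree_eq_natDegree htm.ne_zero, htd]; rfl)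
      have h2 := hS t (p' * p' * p') hti htm (by rw [hr, hs, ht]; ring)
      have h3 : t ∣ p' := by
        rcases hti.prime.dvd_or_dvd h2 with h | h
        · exact (hti.prime.dvd_or_dvd h).elim id id
        · exact h
      have h4 := monic_dvd_eq hti hp' htm hpm' h3
      exact ⟨p' * p', hpm'.mul hpm', by rw [hpm'.natDegree_mul hpm']; omega, by rw [hr, hs, ht, h4]; ring⟩
    · have h3 : p' ∣ t := by
        rcases hp'.prime.dvd_or_dvd h1 with h | h
        · exact absurd (monic_dvd_eq hp' hp hpm' hpm ((hp'.prime.dvd_or_dvd h).elim id id)) hpp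
        · exact h
      obtain ⟨t', ht'⟩ := h3
      have htm' : t'.Monic := hpm'.of_mul_monic_left (ht' ▸ htm)
      have hd3 : t.natDegree = p'.natDegree + t'.natDegree := by rw [ht', hpm'.natDegree_mul htm']
      have ht1 : t' = 1 := htm'.natDegree_eq_zero.1 (by omega)
      exact ⟨p * p', hpm.mul hpm', by rw [hpm.natDegree_mul hpm']; omega, by
        rw [hr, hs, ht, ht', ht1]; ring⟩

end Cfsg.Agent.H166.Cov
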