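import Cfsg.Agent.H166.Cov.FinZero

/-!
# No scalar summand, centralizer not full: lemmas
-/

set_option autoImplicit false

namespace Cfsg.Agent.H166.Cov

open Module Polynomial

universe u

variable {F : Type u} [Field F] {V W U : Type u} [AddCommGroup V] [Module F V]
  [AddCommGroup W] [Module F W] [AddCommGroup U] [Module F U]

/-- half of `Good` : nonscalars -/
def GoodN (T : End F V) : Prop :=
  ∀ g : End F V, NS g → LinearMap.det g = LinearMap.det T ^ finrank F V → HPS T (finrank F V) g

/-- half of `Good` : scalars -/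
def GoodS (T : End F V) : Prop := ∃ z : F, z ≠ 0 ∧ HPS T (finrank F V) (z • (1 : End F V))

theorem GoodN.sim {S : End F V} {T : End F W} (h : Sim S T) (hS : GoodN S) : GoodN T := by
  have hfr := h.finrank
  obtain ⟨e, he⟩ := h
  have hT : e.conj S = T := Sim.eq_conj he
  subst hT
  intro g h1 h2
  have hgg := Sim.conj g e.symm
  have h3 := hS (e.symm.conj g) (hgg.ns h1) (by
    rw [← hgg.det, h2, hfr, (Sim.conj S e).det])
  have h4 := h3.transport e
  rw [← hfr]
  have h5 : e.conj (e.symm.conj g) = g := by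
    refine LinearMap.ext fun x => ?_
    simp [LinearEquiv.conj_apply]
  rwa [h5] at h4

theorem GoodS.sim {S : End F V} {T : End F W} (h : Sim S T) (hS : GoodS S) : GoodS T := by
  have hfr := h.finrank
  obtain ⟨e, he⟩ := h
  have hT : e.conj S = T := Sim.eq_conj he
  subst hT
  obtain ⟨z, hz, h3⟩ := hS
  refine ⟨z, hz, ?_⟩
  rw [← hfr, ← conj_smul_one e]
  exact h3.transport e

theorem Sim.up {U' W' : Type u} [AddCommGroup U'] [Module F U'] [AddCommGroup W'] [Module F W']
    {P : End F U} {P' : End F U'} (R : W →ₗ[F] U) {T : End F W} {T' : End F W'} (hP : Sim P P')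
    (hT : Sim T T') : ∃ R' : W' →ₗ[F] U', Sim (up P R T) (up P' R' T') := by
  obtain ⟨e, he⟩ := hP
  obtain ⟨f, hf⟩ := hT
  refine ⟨(e : U →ₗ[F] U') ∘ₗ R ∘ₗ (f.symm : W' →ₗ[F] W), e.prodCongr f, fun x => ?_⟩
  rw [up_apply, up_apply]
  refine Prod.ext ?_ (hf _)
  change e (P x.1 + R x.2) = P' (e x.1) + e (R (f.symm (f x.2)))
  rw [map_add, he, LinearEquiv.symm_apply_apply]

theorem up_prodMap (P : End F U) (R : W →ₗ[F] U) (T : End F W) (S : End F V) :
    Sim ((up P R T).prodMap S) (up P (R ∘ₗ LinearMap.fst F W V) (T.prodMap S)) :=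
  ⟨LinearEquiv.prodAssoc F U W V, fun _ => rfl⟩

/-- splitting off the left part of a cyclic block -/
theorem block_lift {f p r : F[X]} (hpm : p.Monic) (hrm : r.Monic) (hf : f = p * r) {L : List F[X]}
    {m : ℕ} {T : End F (Fin m → F)} (hT : Dec (f :: L) T) :
    ∃ (m' : ℕ) (P : End F (Fin p.natDegree → F)) (R : (Fin m' → F) →ₗ[F] (Fin p.natDegree → F))
      (T' : End F (Fin m' → F)), m = p.natDegree + m' ∧ Sim T (up P R T') ∧ Coc P ∧
        LinearMap.charpoly P = p ∧ Dec (r :: L) T' := by
  obtain ⟨m₂, T₁, T₂, h1, h2, h3, h4⟩ := dec_cons hT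
  obtain ⟨P, R, S, g1, g2, g3, g4, g5⟩ := exists_up h1 hpm hrm (by rw [h2, hf])
  have h5 := h4.trans ((g1.prodMap (Sim.refl T₂)).trans (up_prodMap P R S T₂))
  have hfr : finrank F ((Fin r.natDegree → F) × (Fin m₂ → F)) = r.natDegree + m₂ := by
    rw [finrank_prod, finrank_fin_fun, finrank_fin_fun]
  let e : ((Fin r.natDegree → F) × (Fin m₂ → F)) ≃ₗ[F] (Fin (r.natDegree + m₂) → F) :=
    LinearEquiv.ofFinrankEq _ _ (by rw [hfr, finrank_fin_fun])
  have h6 := Sim.conj (S.prodMap T₂) e
  obtain ⟨R', h7⟩ := Sim.up (R ∘ₗ LinearMap.fst F _ _) (Sim.refl P) h6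
  have h8 := h5.trans h7
  refine ⟨r.natDegree + m₂, P, R', _, ?_, h8, g2, g3, ?_⟩
  · have h9 := h8.finrank
    rw [finrank_prod, finrank_fin_fun, finrank_fin_fun, finrank_fin_fun] at h9
    exact h9
  · exact ⟨r.natDegree, m₂, S, T₂, g4, g5, h3, h6.symm⟩

theorem finrank_prod_sub (p : Submodule F V) (q : Submodule F W) [FiniteDimensional F V]
    [FiniteDimensional F W] : finrank F (p.prod q) = finrank F p + finrank F q := by
  let e : (p.prod q) ≃ₗ[F] (p × q) :=
    { toFun := fun x => (⟨x.1.1, x.2.1⟩, ⟨x.1.2, x.2.2⟩)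
      map_add' := fun _ _ => rfl
      map_smul' := fun _ _ => rfl
      invFun := fun x => ⟨(x.1, x.2), x.1.2, x.2.2⟩
      left_inv := fun _ => rfl
      right_inv := fun _ => rfl }
  rw [e.finrank_eq, finrank_prod]

theorem Sim.finrank_ker {S : End F V} {T : End F W} (h : Sim S T) (l : F) :
    Module.finrank F (LinearMap.ker (S - l • (1 : End F V))) =
      Module.finrank F (LinearMap.ker (T - l • (1 : End F W))) := by
  obtain ⟨e, he⟩ := h
  have h1 : (LinearMap.ker (S - l • (1 : End F V))).map (e : V →ₗ[F] W) =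
      LinearMap.ker (T - l • (1 : End F W)) := by
    ext y
    constructor
    · rintro ⟨x, hx, rfl⟩
      have h2 : S x = l • x := by
        have := LinearMap.mem_ker.1 hx
        rw [LinearMap.sub_apply, sub_eq_zero] at this
        simpa using this
      rw [LinearMap.mem_ker, LinearMap.sub_apply, sub_eq_zero]
      change T (e x) = l • e x
      rw [← he, h2, map_smul]
    · intro hy
      have h2 : T y = l • y := by
        have := LinearMap.mem_ker.1 hy
        rw [LinearMap.sub_apply, sub_eq_zero] at this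
        simpa using this
      refine ⟨e.symm y, ?_, e.apply_symm_apply y⟩
      rw [SetLike.mem_coe, LinearMap.mem_ker, LinearMap.sub_apply, sub_eq_zero]
      change S (e.symm y) = l • e.symm y
      apply e.injective
      rw [he, e.apply_symm_apply, h2, map_smul, e.apply_symm_apply]
  rw [← h1]
  exact (LinearEquiv.finrank_map_eq e _).symm

theorem ker_dec {l : F} {L : List F[X]} : ∀ {m : ℕ} {T : End F (Fin m → F)}, Dec L T →
    (∀ f ∈ L, f = (X - C l) ^ 2) →
    finrank F (LinearMap.ker (T - l • (1 : End F (Fin m → F)))) = L.length := by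
  induction L with
  | nil =>
    intro m T h _
    obtain rfl : m = 0 := h
    rw [List.length_nil]
    have h1 := Submodule.finrank_le (LinearMap.ker (T - l • (1 : End F (Fin 0 → F))))
    rw [finrank_fin_fun] at h1
    omega
  | cons f L ih =>
    intro m T h hd
    obtain ⟨m₂, T₁, T₂, h1, h2, h3, h4⟩ := dec_cons h
    have hf := hd f List.mem_cons_self
    have hfd : f.natDegree = 2 := by
      rw [hf, (monic_X_sub_C l).natDegree_pow, natDegree_X_sub_C, mul_one]
    rw [h4.finrank_ker]
    have h5 : T₁.prodMap T₂ - l • (1 : End F ((Fin f.natDegree → F) × (Fin m₂ → F))) =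
        (T₁ - l • 1).prodMap (T₂ - l • 1) := by
      refine LinearMap.ext fun x => Prod.ext ?_ ?_ <;> simp
    have h6 := ih h3 fun g hg => hd g (List.mem_cons_of_mem _ hg)
    rw [h5, LinearMap.ker_prodMap, finrank_prod_sub, h6, List.length_cons, add_comm]
    congr 1
    have hfr : finrank F (Fin f.natDegree → F) = 2 := by rw [finrank_fin_fun, hfd]
    have hns := h1.ns (by rw [hfr])
    have hle := Submodule.finrank_le (LinearMap.ker (T₁ - l • (1 : End F (Fin f.natDegree → F))))
    rw [hfr] at hle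
    have hne2 : finrank F (LinearMap.ker (T₁ - l • (1 : End F (Fin f.natDegree → F)))) ≠ 2 := by
      intro h7
      have h8 := Submodule.eq_top_of_finrank_eq (S := LinearMap.ker (T₁ - l • (1 : End F (Fin f.natDegree → F))))
        (by rw [h7, hfr])
      exact hns l (sub_eq_zero.1 (LinearMap.ker_eq_top.1 h8))
    have hne0 : finrank F (LinearMap.ker (T₁ - l • (1 : End F (Fin f.natDegree → F)))) ≠ 0 := by
      intro h7
      have h8 : LinearMap.ker (T₁ - l • (1 : End F (Fin f.natDegree → F))) = ⊥ :=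
        Submodule.finrank_eq_zero.1 h7
      have h9 := LinearMap.ker_eq_bot.1 h8
      have h10 := LinearMap.aeval_self_charpoly T₁
      rw [h2.trans hf, map_pow, map_sub, aeval_X, aeval_C, Algebra.algebraMap_eq_smul_one, pow_two] at h10
      apply hns l
      refine sub_eq_zero.1 (LinearMap.ext fun x => h9 ?_)
      have h11 := LinearMap.congr_fun h10 x
      rw [Module.End.mul_apply] at h11
      rw [h11]
      simp
    omega

end Cfsg.Agent.H166.Cov
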