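import Cfsg.Agent.H166.Cov.Basic

/-!
# Transitivity of the special linear group on independent families
-/

set_option autoImplicit false

namespace Cfsg.Agent.H166.Cov

open Module Polynomial

universe u

variable {F : Type u} [Field F] {V W U : Type u} [AddCommGroup V] [Module F V]
  [AddCommGroup W] [Module F W] [AddCommGroup U] [Module F U]

theorem exists_det [FiniteDimensional F V] (h : 0 < finrank F V) {c : F} (hc : c ≠ 0) :
    ∃ e : V ≃ₗ[F] V, LinearMap.det (e : V →ₗ[F] V) = c := by
  let b := finBasis F V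
  let M : End F V := Matrix.toLin b b (Matrix.diagonal (Function.update 1 ⟨0, h⟩ c))
  have hM : LinearMap.det M = c := by
    rw [LinearMap.det_toLin, Matrix.det_diagonal, Finset.prod_update_of_mem (Finset.mem_univ _)]
    simp
  exact ⟨LinearMap.equivOfDetNeZero M (by rwa [hM]), hM⟩

theorem exists_sl_map [FiniteDimensional F V] {ι : Type} [Finite ι] {u u' : ι → V}
    (hu : LinearIndependent F u) (hu' : LinearIndependent F u') (hcard : Nat.card ι < finrank F V) :
    ∃ h : V ≃ₗ[F] V, LinearMap.det (h : V →ₗ[F] V) = 1 ∧ ∀ i, h (u i) = u' i := by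
  classical
  have := Fintype.ofFinite ι
  rw [Nat.card_eq_fintype_card] at hcard
  obtain ⟨C, hC⟩ := Submodule.exists_isCompl (Submodule.span F (Set.range u))
  obtain ⟨C', hC'⟩ := Submodule.exists_isCompl (Submodule.span F (Set.range u'))
  have h1 := Submodule.finrank_add_eq_of_isCompl hC
  have h2 := Submodule.finrank_add_eq_of_isCompl hC'
  have h3 := finrank_span_eq_card hu
  have h4 := finrank_span_eq_card hu'
  let eC : C ≃ₗ[F] C' := LinearEquiv.ofFinrankEq C C' (by omega)
  let eP : Submodule.span F (Set.range u) ≃ₗ[F] Submodule.span F (Set.range u') :=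
    (Basis.span hu).equiv (Basis.span hu') (Equiv.refl ι)
  let h₀ : V ≃ₗ[F] V := (Submodule.prodEquivOfIsCompl _ _ hC).symm.trans
    ((eP.prodCongr eC).trans (Submodule.prodEquivOfIsCompl _ _ hC'))
  have hh₀ : ∀ i, h₀ (u i) = u' i := by
    intro i
    have h5 : (Submodule.prodEquivOfIsCompl _ _ hC).symm (u i) = (Basis.span hu i, 0) := by
      rw [LinearEquiv.symm_apply_eq]
      rw [Submodule.coe_prodEquivOfIsCompl']
      simp [Basis.span_apply]
    change (Submodule.prodEquivOfIsCompl _ _ hC') ((eP.prodCongr eC) ((Submodule.prodEquivOfIsCompl _ _ hC).symm (u i))) = _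
    rw [h5]
    have h6 : (eP.prodCongr eC) (Basis.span hu i, 0) = (Basis.span hu' i, 0) := by
      refine Prod.ext ?_ ?_
      · change eP (Basis.span hu i) = _
        rw [Basis.equiv_apply]; rfl
      · change eC 0 = 0
        exact map_zero _
    rw [h6, Submodule.coe_prodEquivOfIsCompl']
    simp [Basis.span_apply]
  have hd0 : LinearMap.det (h₀ : V →ₗ[F] V) ≠ 0 := (LinearEquiv.isUnit_det' h₀).ne_zero
  obtain ⟨s, hs⟩ := exists_det (F := F) (V := C') (by omega) (inv_ne_zero hd0)
  let s' : V ≃ₗ[F] V := (Submodule.prodEquivOfIsCompl _ _ hC').symm.trans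
    (((LinearEquiv.refl F _).prodCongr s).trans (Submodule.prodEquivOfIsCompl _ _ hC'))
  have hs' : ∀ i, s' (u' i) = u' i := by
    intro i
    have h5 : (Submodule.prodEquivOfIsCompl _ _ hC').symm (u' i) = (Basis.span hu' i, 0) := by
      rw [LinearEquiv.symm_apply_eq]
      rw [Submodule.coe_prodEquivOfIsCompl']
      simp [Basis.span_apply]
    change (Submodule.prodEquivOfIsCompl _ _ hC') (((LinearEquiv.refl F _).prodCongr s)
      ((Submodule.prodEquivOfIsCompl _ _ hC').symm (u' i))) = _
    rw [h5]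
    have h6 : ((LinearEquiv.refl F _).prodCongr s) (Basis.span hu' i, 0) = (Basis.span hu' i, 0) := by
      refine Prod.ext rfl ?_
      change s 0 = 0
      exact map_zero _
    rw [h6, Submodule.coe_prodEquivOfIsCompl']
    simp [Basis.span_apply]
  have hds : LinearMap.det (s' : V →ₗ[F] V) = (LinearMap.det (h₀ : V →ₗ[F] V))⁻¹ := by
    let D : (Submodule.span F (Set.range u') × C') ≃ₗ[F] V := Submodule.prodEquivOfIsCompl _ _ hC'
    have h5 : (s' : V →ₗ[F] V) = (D : (Submodule.span F (Set.range u') × C') →ₗ[F] V) ∘ₗ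
      (LinearMap.prodMap LinearMap.id (s : C' →ₗ[F] C')) ∘ₗ
        (D.symm : V →ₗ[F] (Submodule.span F (Set.range u') × C')) := rfl
    rw [h5, LinearMap.det_conj]
    have h6 := LinearMap.det_prodMap (LinearMap.id : End F (Submodule.span F (Set.range u'))) (s : End F C')
    rw [LinearMap.det_id, one_mul, hs] at h6
    exact h6
  refine ⟨h₀.trans s', ?_, fun i => ?_⟩
  · rw [LinearEquiv.coe_trans, LinearMap.det_comp, hds, inv_mul_cancel₀ hd0]
  · rw [LinearEquiv.trans_apply, hh₀, hs']

end Cfsg.Agent.H166.Cov
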