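import Cfsg.Agent.H166.Cov.Merge
import Cfsg.Agent.H166.Cov.SLMap

/-!
# The peel lemma
-/

set_option autoImplicit false

namespace Cfsg.Agent.H166.Cov

open Module Polynomial

universe u

variable {F : Type u} [Field F] {V W U : Type u} [AddCommGroup V] [Module F V]
  [AddCommGroup W] [Module F W] [AddCommGroup U] [Module F U]

/-- `g` is a product of `k` conjugates of `T` under the special linear group, without a common
eigenvector for `μ` -/
def HPSN (T : End F V) (k : ℕ) (μ : F) (g : End F V) : Prop :=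
  ∃ L : List (End F V), L.length = k ∧ (∀ A ∈ L, SimS T A) ∧ L.prod = g ∧
    ∀ u, (∀ A ∈ L, A u = μ • u) → u = 0

theorem HPSN.hps {T : End F V} {k : ℕ} {μ : F} {g : End F V} (h : HPSN T k μ g) : HPS T k g := by
  obtain ⟨L, h1, h2, h3, -⟩ := h
  exact ⟨L, h1, h2, h3⟩

theorem HPSN.hpn {T : End F V} {k : ℕ} {μ : F} {g : End F V} (h : HPSN T k μ g) : HPN T k μ g := by
  obtain ⟨L, h1, h2, h3, h4⟩ := h
  exact ⟨L, h1, fun A hA => (h2 A hA).sim, h3, h4⟩

theorem HPSN.conj {T : End F V} {k : ℕ} {μ : F} {g g' : End F V} (h : HPSN T k μ g)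
    (hg : SimS g g') : HPSN T k μ g' := by
  obtain ⟨L, h1, h2, h3, h4⟩ := h
  obtain ⟨e, hd, he⟩ := hg
  refine ⟨L.map fun A => e.conj A, by simpa using h1, ?_, ?_, ?_⟩
  · intro A hA
    obtain ⟨B, hB, rfl⟩ := List.mem_map.1 hA
    exact (h2 B hB).trans ⟨e, hd, fun x => by simp [LinearEquiv.conj_apply]⟩
  · rw [prod_map_conj, h3, Sim.eq_conj he]
  · intro x hx
    have := h4 (e.symm x) (fun A hA => by
      have h5 := hx _ (List.mem_map.2 ⟨A, hA, rfl⟩)
      rw [LinearEquiv.conj_apply] at h5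
      simp only [LinearMap.comp_apply, LinearEquiv.coe_coe] at h5
      rw [← e.symm_apply_apply (A (e.symm x)), h5, map_smul])
    simpa using this

theorem up_mul (P P' : End F U) (R R' : W →ₗ[F] U) (T T' : End F W) :
    up P R T * up P' R' T' = up (P * P') (P ∘ₗ R' + R ∘ₗ T') (T * T') := by
  refine LinearMap.ext fun x => ?_
  rw [Module.End.mul_apply, up_apply, up_apply, up_apply]
  simp only [Module.End.mul_apply, map_add, LinearMap.add_apply, LinearMap.comp_apply, add_assoc]

theorem det_smul_one (c : F) : LinearMap.det (c • (1 : End F F)) = c := by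
  rw [LinearMap.det_smul, map_one, finrank_self, pow_one, mul_one]

/-- one lift -/
theorem lift_one [FiniteDimensional F W] {l : F} (ρ : W →ₗ[F] F) {T A : End F W} (h : Sim T A) :
    ∃ R₀ : W →ₗ[F] F, ∀ σ : W →ₗ[F] F, SimS (up (l • (1 : End F F)) ρ T)
      (up (l • (1 : End F F)) (R₀ + σ ∘ₗ (A - l • (1 : End F W))) A) := by
  obtain ⟨x, hx⟩ := h
  have hd0 : LinearMap.det (x : W →ₗ[F] W) ≠ 0 := (LinearEquiv.isUnit_det' x).ne_zero
  set c : F := (LinearMap.det (x : W →ₗ[F] W))⁻¹ with hc
  have hc0 : c ≠ 0 := inv_ne_zero hd0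
  refine ⟨c • (ρ ∘ₗ (x.symm : W →ₗ[F] W)), fun σ => ?_⟩
  let h : (F × W) ≃ₗ[F] (F × W) :=
    { toFun := fun y => (c * y.1 + σ (x y.2), x y.2)
      map_add' := fun y z => by
        refine Prod.ext ?_ (map_add x _ _)
        simp only [Prod.fst_add, Prod.snd_add, map_add]
        ring
      map_smul' := fun r y => by
        refine Prod.ext ?_ (map_smul x _ _)
        simp only [Prod.smul_fst, Prod.smul_snd, map_smul, smul_eq_mul, RingHom.id_apply]
        ring
      invFun := fun y => (c⁻¹ * (y.1 - σ y.2), x.symm y.2)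
      left_inv := fun y => by
        refine Prod.ext ?_ (x.symm_apply_apply _)
        simp only [add_sub_cancel_right]
        rw [← mul_assoc, inv_mul_cancel₀ hc0, one_mul]
      right_inv := fun y => by
        refine Prod.ext ?_ (x.apply_symm_apply _)
        simp only [LinearEquiv.apply_symm_apply]
        rw [← mul_assoc, mul_inv_cancel₀ hc0, one_mul, sub_add_cancel] }
  have hh : ∀ y, h y = (c * y.1 + σ (x y.2), x y.2) := fun _ => rfl
  refine ⟨h, ?_, fun y => ?_⟩
  · have h1 : (h : (F × W) →ₗ[F] (F × W)) = up (c • (1 : End F F)) (σ ∘ₗ (x : W →ₗ[F] W)) (x : W →ₗ[F] W) :=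
      LinearMap.ext fun y => rfl
    rw [h1, det_up, det_smul_one, hc, inv_mul_cancel₀ hd0]
  · rw [hh, hh, up_apply, up_apply]
    refine Prod.ext ?_ (hx _)
    simp only [LinearMap.smul_apply, Module.End.one_apply, LinearMap.add_apply, LinearMap.comp_apply,
      LinearEquiv.coe_coe, LinearEquiv.symm_apply_apply, LinearMap.sub_apply, map_sub, map_smul,
      smul_eq_mul, hx]
    ring

/-- lift of a list -/
theorem lift_list [FiniteDimensional F W] {l : F} (hl : l ≠ 0) (ρ : W →ₗ[F] F) {T : End F W}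
    (L : List (End F W)) (hL : ∀ A ∈ L, Sim T A) :
    ∃ R₀ : W →ₗ[F] F, ∀ τ : W →ₗ[F] F, (∀ w, (∀ A ∈ L, A w = l • w) → τ w = 0) →
      ∃ L' : List (End F (F × W)), L'.length = L.length ∧
        (∀ B ∈ L', SimS (up (l • (1 : End F F)) ρ T) B) ∧
        L'.prod = up (l ^ L.length • (1 : End F F)) (R₀ + τ) L.prod ∧
        ∀ A ∈ L, ∃ B ∈ L', ∀ x, (B x).2 = A x.2 := by
  induction L with
  | nil =>
    refine ⟨0, fun τ hτ => ⟨[], rfl, by simp, ?_, by simp⟩⟩
    have h1 : τ = 0 := LinearMap.ext fun w => hτ w (by simp)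
    subst h1
    refine LinearMap.ext fun x => ?_
    rw [up_apply]
    simp
  | cons A L ih =>
    obtain ⟨R₀, hR⟩ := ih fun B hB => hL B (List.mem_cons_of_mem _ hB)
    obtain ⟨R₁, hR₁⟩ := lift_one (l := l) ρ (hL A List.mem_cons_self)
    refine ⟨l • R₀ + R₁ ∘ₗ L.prod, fun τ hτ => ?_⟩
    -- decompose `τ`
    let E : Submodule F W :=
      { carrier := {w | ∀ B ∈ L, B w = l • w}
        add_mem' := fun {a b} ha hb B hB => by rw [map_add, ha B hB, hb B hB, smul_add]
        zero_mem' := fun B _ => by simp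
        smul_mem' := fun c x hx B hB => by rw [map_smul, hx B hB, smul_comm] }
    have hE : ∀ w, w ∈ E ↔ ∀ B ∈ L, B w = l • w := fun _ => Iff.rfl
    have h1 : (τ : Dual F W) ∈ (LinearMap.ker (A - l • (1 : End F W)) ⊓ E).dualAnnihilator := by
      rw [Submodule.mem_dualAnnihilator]
      intro w hw
      obtain ⟨hw1, hw2⟩ := Submodule.mem_inf.1 hw
      refine hτ w fun B hB => ?_
      rcases List.mem_cons.1 hB with rfl | hB
      · have h2 := LinearMap.mem_ker.1 hw1
        rw [LinearMap.sub_apply, sub_eq_zero] at h2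
        simpa using h2
      · exact hw2 B hB
    rw [Subspace.dualAnnihilator_inf_eq, Submodule.mem_sup] at h1
    obtain ⟨τ₁, h2, τ₂, h3, h4⟩ := h1
    rw [← LinearMap.range_dualMap_eq_dualAnnihilator_ker] at h2
    obtain ⟨σ, hσ⟩ := h2
    have hσ' : ∀ w, τ₁ w = σ ((A - l • (1 : End F W)) w) := fun w => by rw [← hσ]; rfl
    set k := L.length with hk
    have hlk : l ^ k ≠ 0 := pow_ne_zero _ hl
    let σ' : W →ₗ[F] F := (l ^ k)⁻¹ • σ
    let τ' : W →ₗ[F] F := l⁻¹ • (τ - (σ' ∘ₗ (A - l • (1 : End F W))) ∘ₗ L.prod)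
    obtain ⟨L', g1, g2, g3, g4⟩ := hR τ' (by
      intro w hw
      have h5 : τ₂ w = 0 := (Submodule.mem_dualAnnihilator τ₂).1 h3 w ((hE w).2 hw)
      have h6 : τ w = τ₁ w + τ₂ w := by rw [← h4]; rfl
      have h7 : L.prod w = l ^ k • w := common_pow hw
      change l⁻¹ * (τ w - (l ^ k)⁻¹ * σ ((A - l • (1 : End F W)) (L.prod w))) = 0
      rw [h7, map_smul, map_smul, ← hσ', h6, h5, smul_eq_mul, ← mul_assoc, inv_mul_cancel₀ hlk, one_mul,
        add_zero, sub_self, mul_zero])
    refine ⟨up (l • (1 : End F F)) (R₁ + σ' ∘ₗ (A - l • (1 : End F W))) A :: L',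
      by rw [List.length_cons, List.length_cons, g1], ?_, ?_, ?_⟩
    · intro B hB
      rcases List.mem_cons.1 hB with rfl | hB
      · exact hR₁ σ'
      · exact g2 B hB
    · rw [List.prod_cons, g3, up_mul, List.length_cons, List.prod_cons, ← hk]
      congr 1
      · rw [smul_mul_smul_comm, mul_one, pow_succ']
      · refine LinearMap.ext fun w => ?_
        simp only [LinearMap.add_apply, LinearMap.comp_apply, LinearMap.smul_apply, Module.End.one_apply,
          smul_eq_mul, τ', LinearMap.sub_apply]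
        field_simp
        ring
    · intro B hB
      rcases List.mem_cons.1 hB with rfl | hB
      · exact ⟨_, List.mem_cons_self, fun x => rfl⟩
      · obtain ⟨C, hC, hC'⟩ := g4 B hB
        exact ⟨C, List.mem_cons_of_mem _ hC, hC'⟩

theorem eq_up {G : End F (F × W)} {c : F} (h : G (1, 0) = c • (1, 0)) :
    ∃ (ρ : W →ₗ[F] F) (G₁ : End F W), G = up (c • (1 : End F F)) ρ G₁ := by
  refine ⟨LinearMap.fst F F W ∘ₗ G ∘ₗ LinearMap.inr F F W,
    LinearMap.snd F F W ∘ₗ G ∘ₗ LinearMap.inr F F W, LinearMap.ext fun x => ?_⟩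
  have h1 : x = x.1 • ((1, 0) : F × W) + (0, x.2) := by
    refine Prod.ext ?_ ?_ <;> simp
  have h2 : G x = x.1 • c • ((1, 0) : F × W) + G (0, x.2) := by
    conv_lhs => rw [h1]
    rw [map_add, map_smul, h]
  rw [h2, up_apply]
  refine Prod.ext ?_ ?_
  · simp only [Prod.fst_add, Prod.smul_fst, LinearMap.smul_apply, Module.End.one_apply,
      LinearMap.comp_apply, LinearMap.inr_apply, LinearMap.fst_apply, smul_eq_mul]
    ring
  · simp

theorem det_ne_zero_surj [FiniteDimensional F V] {g : End F V} (h : LinearMap.det g ≠ 0) :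
    Function.Surjective g := (LinearMap.equivOfDetNeZero g h).surjective

theorem peel [FiniteDimensional F W] (hW : 2 ≤ finrank F W) {T' : End F W} (hT' : NS T') {l : F}
    (hl : l ≠ 0) (hT0 : LinearMap.det T' ≠ 0) {k : ℕ} (hgen : Gen T' k l) (ρ : W →ₗ[F] F)
    {g : End F (F × W)} (hg : NS g)
    (hd : LinearMap.det g = LinearMap.det (up (l • (1 : End F F)) ρ T') ^ (k + 1)) :
    HPSN (up (l • (1 : End F F)) ρ T') (k + 1) l g := by
  set T := up (l • (1 : End F F)) ρ T' with hTdef
  have hfr : finrank F (F × W) = finrank F W + 1 := by rw [finrank_prod, finrank_self, add_comm]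
  have hdT : LinearMap.det T = l * LinearMap.det T' := by rw [hTdef, det_up, det_smul_one]
  have hdT0 : LinearMap.det T ≠ 0 := by rw [hdT]; exact mul_ne_zero hl hT0
  have hgd0 : LinearMap.det g ≠ 0 := by rw [hd]; exact pow_ne_zero _ hdT0
  -- reduction to `g e₀ ∉ F e₀`
  suffices H : ∀ g : End F (F × W), LinearMap.det g = LinearMap.det T ^ (k + 1) →
      (∀ c : F, g (1, 0) ≠ c • (1, 0)) → HPSN T (k + 1) l g by
    obtain ⟨v, hv⟩ := hg.exists_vec
    have hv0 : v ≠ 0 := by
      rintro rfl
      exact hv 0 (by simp)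
    obtain ⟨E, hE, hE'⟩ := exists_sl_map (F := F) (ι := Unit) (u := fun _ => v)
      (u' := fun _ => ((1, 0) : F × W)) (LinearIndependent.of_subsingleton () hv0)
      (LinearIndependent.of_subsingleton () (by simp)) (by
        rw [hfr, Nat.card_eq_fintype_card, Fintype.card_unit]; omega)
    have hs : SimS g (E.conj g) := ⟨E, hE, fun x => by simp [LinearEquiv.conj_apply]⟩
    have hs' : SimS (E.conj g) g := hs.symm
    refine (H (E.conj g) (by rw [← hs.sim.det, hd]) fun c hc => hv c ?_).conj hs'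
    have h1 : E v = (1, 0) := hE' ()
    rw [← h1, LinearEquiv.conj_apply] at hc
    simp only [LinearMap.comp_apply, LinearEquiv.coe_coe, LinearEquiv.symm_apply_apply] at hc
    rw [← map_smul] at hc
    exact E.injective hc
  clear hg hd hgd0 g
  intro g hd hg
  have hgd0 : LinearMap.det g ≠ 0 := by rw [hd]; exact pow_ne_zero _ hdT0
  set e₀ : F × W := (1, 0) with he₀
  have he₀0 : e₀ ≠ 0 := by simp [he₀]
  obtain ⟨w, hw⟩ : ∃ w : F × W, w = (l ^ k)⁻¹ • g e₀ := ⟨_, rfl⟩
  have hlk : l ^ k ≠ 0 := pow_ne_zero _ hl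
  have hwc : ∀ c : F, w ≠ c • e₀ := by
    intro c hc
    apply hg (l ^ k * c)
    rw [mul_smul, ← hc, hw, smul_smul, mul_inv_cancel₀ hlk, one_smul]
  have hgw : g e₀ = l ^ k • w := by rw [hw, smul_smul, mul_inv_cancel₀ hlk, one_smul]
  -- it suffices to find `A` with `G₁` nonscalar
  suffices H : ∃ A B : End F (F × W), SimS T A ∧ A e₀ = w ∧ A * B = 1 ∧ B * A = 1 ∧
      ∀ c : F, ∃ y : W, (B (g (0, y))).2 ≠ c • y by
    obtain ⟨A, B, hTA, hAe, hAB, hBA, hns⟩ := H
    have h1 : (B * g) e₀ = l ^ k • e₀ := by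
      rw [Module.End.mul_apply, hgw, ← hAe, map_smul, ← Module.End.mul_apply, hBA, Module.End.one_apply]
    obtain ⟨ρ', G₁, hG⟩ := eq_up h1
    have hG1 : NS G₁ := by
      intro c hc
      obtain ⟨y, hy⟩ := hns c
      apply hy
      have h2 := LinearMap.congr_fun hG (0, y)
      rw [Module.End.mul_apply, up_apply] at h2
      rw [h2, hc]
      simp
    have hGd : LinearMap.det G₁ = LinearMap.det T' ^ k := by
      have h2 : LinearMap.det (B * g) = l ^ k * LinearMap.det G₁ := by rw [hG, det_up, det_smul_one]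
      have h3 : LinearMap.det A * LinearMap.det B = 1 := by rw [← map_mul, hAB, map_one]
      rw [← hTA.sim.det, hdT] at h3
      rw [map_mul, hd, hdT] at h2
      have h4 : l ^ k * LinearMap.det G₁ = l ^ k * LinearMap.det T' ^ k := by
        rw [← h2, pow_succ', ← mul_assoc, mul_comm (LinearMap.det B), h3, one_mul, mul_pow]
      exact mul_left_cancel₀ hlk h4
    obtain ⟨L, g1, g2, g3, g4⟩ := hgen G₁ hG1 hGd
    obtain ⟨R₀, hR⟩ := lift_list hl ρ L g2
    obtain ⟨L', f1, f2, f3, f4⟩ := hR (ρ' - R₀) fun w hw => by rw [g4 w hw, map_zero]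
    refine ⟨A :: L', by rw [List.length_cons, f1, g1], ?_, ?_, ?_⟩
    · intro C hC
      rcases List.mem_cons.1 hC with rfl | hC
      · exact hTA
      · exact f2 C hC
    · rw [List.prod_cons, f3, g1, g3, add_sub_cancel, ← hG, ← mul_assoc, hAB, one_mul]
    · intro u hu
      have h2 : u.2 = 0 := g4 u.2 fun C hC => by
        obtain ⟨D, hD, hD'⟩ := f4 C hC
        rw [← hD' u, hu D (List.mem_cons_of_mem _ hD)]
        rfl
      have h3 : u = u.1 • e₀ := by
        refine Prod.ext ?_ ?_ <;> simp [he₀, h2]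
      have h4 := hu A List.mem_cons_self
      rw [h3, map_smul, hAe] at h4
      by_contra hne
      have h5 : u.1 ≠ 0 := fun h => hne (by rw [h3, h, zero_smul])
      exact hwc l (by
        rw [smul_comm] at h4
        exact smul_right_injective _ h5 h4)
  -- construction of `A`
  have hTns : NS T := by
    intro c hc
    apply hT' c
    refine LinearMap.ext fun y => ?_
    have h1 := congrArg Prod.snd (LinearMap.congr_fun hc (0, y))
    rw [hTdef, up_apply] at h1
    simpa using h1
  obtain ⟨x, hx⟩ := hTns.exists_vec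
  have hx0 : x ≠ 0 := by
    rintro rfl
    exact hx 0 (by simp)
  have hli : ∀ a b : F × W, a ≠ 0 → (∀ c : F, b ≠ c • a) → LinearIndependent F ![a, b] := by
    intro a b ha hb
    rw [LinearIndependent.pair_iff]
    intro s t hst
    have ht : t = 0 := by
      by_contra ht
      apply hb (-(t⁻¹ * s))
      have h1 : t • b = -(s • a) := by
        rw [eq_neg_iff_add_eq_zero, add_comm]; exact hst
      rw [neg_smul, mul_smul, ← smul_neg, ← h1, smul_smul, inv_mul_cancel₀ ht, one_smul]
    rw [ht, zero_smul, add_zero] at hst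
    exact ⟨(smul_eq_zero.1 hst).resolve_right ha, ht⟩
  obtain ⟨h, hh1, hh2⟩ := exists_sl_map (hli x (T x) hx0 hx) (hli e₀ w he₀0 hwc) (by
    rw [hfr, Nat.card_eq_fintype_card, Fintype.card_fin]; omega)
  have hh3 : h x = e₀ := hh2 0
  have hh4 : h (T x) = w := hh2 1
  have hA1 : SimS T (h.conj T) := ⟨h, hh1, fun y => by simp [LinearEquiv.conj_apply]⟩
  set A := h.conj T with hA
  have hAe : A e₀ = w := by
    rw [← hh3, ← hh4, hA, LinearEquiv.conj_apply]
    simp
  obtain ⟨B, hAB, hBA⟩ := exists_inv (g := A) (by rw [← hA1.sim.det]; exact hdT0)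
  by_cases hns : ∀ c : F, ∃ y : W, (B (g (0, y))).2 ≠ c • y
  · exact ⟨A, B, hA1, hAe, hAB, hBA, hns⟩
  push Not at hns
  obtain ⟨s, hs⟩ := hns
  -- the transvection
  have hlt : Submodule.span F {e₀, w} < ⊤ := by
    rw [lt_top_iff_ne_top]
    intro htop
    classical
    have h1 := finrank_span_finset_le_card (R := F) ({e₀, w} : Finset (F × W))
    rw [Set.finrank, Finset.coe_insert, Finset.coe_singleton, htop, finrank_top, hfr] at h1
    have h2 : ({e₀, w} : Finset (F × W)).card ≤ 2 := Finset.card_le_two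
    omega
  obtain ⟨η, hη0, hη⟩ := Submodule.exists_le_ker_of_lt_top _ hlt
  have hη1 : η e₀ = 0 := hη (Submodule.subset_span (by simp))
  have hη2 : η w = 0 := hη (Submodule.subset_span (by simp))
  let t : (F × W) ≃ₗ[F] (F × W) := LinearEquiv.transvection (f := η) (v := e₀) hη1
  have ht : ∀ y, t y = y + η y • e₀ := fun y => by
    simp [t, LinearMap.transvection.apply]
  have htd : LinearMap.det (t : (F × W) →ₗ[F] (F × W)) = 1 := by
    rw [← LinearEquiv.coe_det, LinearEquiv.transvection.det_eq_one, Units.val_one]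
  have hts : ∀ y, t.symm y = y - η y • e₀ := by
    intro y
    rw [LinearEquiv.symm_apply_eq, ht, map_sub, map_smul, hη1, smul_zero, sub_zero, sub_add_cancel]
  have hA2 : SimS A (t.conj A) := ⟨t, htd, fun y => by simp [LinearEquiv.conj_apply]⟩
  have hAB' : t.conj A * t.conj B = 1 := by
    refine LinearMap.ext fun y => ?_
    have h1 : A (B (t.symm y)) = t.symm y := LinearMap.congr_fun hAB _
    simp [LinearEquiv.conj_apply, h1]
  have hBA' : t.conj B * t.conj A = 1 := by
    refine LinearMap.ext fun y => ?_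
    have h1 : B (A (t.symm y)) = t.symm y := LinearMap.congr_fun hBA _
    simp [LinearEquiv.conj_apply, h1]
  refine ⟨t.conj A, t.conj B, hA1.trans hA2, ?_, hAB', hBA', fun c => ?_⟩
  · rw [LinearEquiv.conj_apply]
    simp only [LinearMap.comp_apply, LinearEquiv.coe_coe]
    rw [hts, hη1, zero_smul, sub_zero, hAe, ht, hη2, zero_smul, add_zero]
  · by_contra hcon
    push Not at hcon
    set z : W := (B e₀).2 with hz
    have hz0 : z ≠ 0 := by
      intro hz0
      have h1 : B e₀ = (B e₀).1 • e₀ := by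
        refine Prod.ext ?_ ?_
        · simp [he₀]
        · rw [← hz, hz0]; simp [he₀]
      have h2 : A (B e₀) = e₀ := LinearMap.congr_fun hAB _
      rw [h1, map_smul, hAe] at h2
      have h3 : (B e₀).1 ≠ 0 := by
        intro h
        rw [h, zero_smul] at h2
        exact he₀0 h2.symm
      exact hwc ((B e₀).1)⁻¹ ((eq_inv_smul_iff₀ h3).2 h2)
    -- the two scalars
    have h1 : ∀ y : W, (s - c) • y = η (g (0, y)) • z := by
      intro y
      have h2 := hcon y
      have h3 := hs y
      rw [LinearEquiv.conj_apply] at h2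
      simp only [LinearMap.comp_apply, LinearEquiv.coe_coe] at h2
      rw [hts, ht, map_sub, map_smul] at h2
      have h4 : ∀ (a : F × W) (r : F), (a + r • e₀).2 = a.2 := fun a r => by simp [he₀]
      rw [h4] at h2
      simp only [Prod.snd_sub, Prod.smul_snd] at h2
      rw [h3, ← hz] at h2
      rw [sub_smul, ← h2, sub_sub_cancel]
    have hsc : s = c := by
      by_contra hne
      have hsc : s - c ≠ 0 := sub_ne_zero.2 hne
      have h2 : Submodule.span F {z} = ⊤ := by
        rw [eq_top_iff]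
        intro y _
        rw [Submodule.mem_span_singleton]
        exact ⟨(s - c)⁻¹ * η (g (0, y)), by
          rw [mul_smul, ← h1, smul_smul, inv_mul_cancel₀ hsc, one_smul]⟩
      have h3 := finrank_span_singleton (K := F) hz0
      rw [h2, finrank_top] at h3
      omega
    have h2 : ∀ y : W, η (g (0, y)) = 0 := by
      intro y
      have h3 := h1 y
      rw [hsc, sub_self, zero_smul] at h3
      exact (smul_eq_zero.1 h3.symm).resolve_right hz0
    apply hη0
    refine LinearMap.ext fun y => ?_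
    obtain ⟨a, rfl⟩ := det_ne_zero_surj hgd0 y
    have h3 : a = a.1 • e₀ + (0, a.2) := by
      refine Prod.ext ?_ ?_ <;> simp [he₀]
    rw [h3, map_add, map_add, h2, map_smul, map_smul, hgw, map_smul, hη2]
    simp

end Cfsg.Agent.H166.Cov
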