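import Cfsg.Agent.H166.Cov.Basic
import Cfsg.Agent.H166.Cov.Leaf

/-!
# The main factorization theorem
-/

set_option autoImplicit false

namespace Cfsg.Agent.H166.Cov

open Module Polynomial

universe u

variable {F : Type u} [Field F] {V W U : Type u} [AddCommGroup V] [Module F V]
  [AddCommGroup W] [Module F W] [AddCommGroup U] [Module F U]

theorem NS.exists_vec {g : End F V} (hg : NS g) : ∃ v, ∀ c : F, g v ≠ c • v := by
  by_contra hcon
  push Not at hcon
  obtain ⟨a, ha⟩ := LinearMap.exists_eq_smul_id_of_forall_notLinearIndependent (f := g) (by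
    intro v hv
    obtain ⟨c, hc⟩ := hcon v
    have h1 := (LinearIndependent.pair_iff.1 hv) (-c) 1 (by rw [hc, one_smul, neg_smul, neg_add_cancel])
    exact one_ne_zero h1.2)
  exact hg a ha

theorem NS.exists_dual {g : End F V} (hg : NS g) :
    ∃ φ : V →ₗ[F] F, ∀ c : F, φ ∘ₗ g ≠ c • φ := by
  obtain ⟨v, hv⟩ := hg.exists_vec
  have hv0 : v ≠ 0 := by
    rintro rfl
    exact hv 0 (by simp)
  -- a functional vanishing at `v` and not at `g v`
  have h1 : g v ∉ Submodule.span F {v} := by
    intro h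
    obtain ⟨c, hc⟩ := Submodule.mem_span_singleton.1 h
    exact hv c hc.symm
  obtain ⟨φ, hφ1, hφ2⟩ := Submodule.exists_le_ker_of_notMem h1
  refine ⟨φ, fun c hc => hφ1 ?_⟩
  have h2 := LinearMap.congr_fun hc v
  have h3 : φ v = 0 := hφ2 (Submodule.mem_span_singleton_self v)
  rw [LinearMap.comp_apply, LinearMap.smul_apply, h3, smul_zero] at h2
  exact h2

theorem Obs.congr {φ : V →ₗ[F] F} {S T : End F V} (h : Obs φ S) (hST : ∀ x, φ x = 0 → S x = T x) :
    Obs φ T := fun P h1 h2 => h P h1 fun x hx => by rw [hST x (h1 x hx)]; exact h2 x hx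


/-- extension of a partially defined map to an endomorphism with a given characteristic polynomial -/
theorem exists_extend [FiniteDimensional F U] {φ : U →ₗ[F] F} {a D : W →ₗ[F] U}
    (ha : Function.Injective a) (hφ : ∀ x, φ x = 0 ↔ ∃ w, a w = x)
    (hD : ∀ S : Submodule F W, (∀ x ∈ S, ∃ y ∈ S, D x = a y) → S = ⊥) {p : F[X]} (hp : p.Monic)
    (hpd : p.natDegree = finrank F U) :
    ∃ Z : End F U, (∀ w, Z (a w) = D w) ∧ Obs φ Z ∧ LinearMap.charpoly Z = p := by
  obtain ⟨l, hl⟩ := LinearMap.exists_leftInverse_of_injective a (LinearMap.ker_eq_bot.2 ha)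
  have hl' : ∀ w, l (a w) = w := fun w => LinearMap.congr_fun hl w
  have hO : Obs φ (D ∘ₗ l : End F U) := by
    intro S h1 h2
    have h3 := hD (S.comap a) (by
      intro x hx
      have h4 := h2 (a x) hx
      rw [LinearMap.comp_apply, hl'] at h4
      obtain ⟨w, hw⟩ := (hφ _).1 (h1 _ h4)
      exact ⟨w, by rw [Submodule.mem_comap, hw]; exact h4, hw.symm⟩)
    rw [Submodule.eq_bot_iff] at h3 ⊢
    intro x hx
    obtain ⟨w, rfl⟩ := (hφ _).1 (h1 _ hx)
    rw [h3 w hx, map_zero]
  obtain ⟨b, hb⟩ := exists_charpoly_add hO hp hpd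
  refine ⟨_, fun w => ?_, hO.congr (T := D ∘ₗ l + φ.smulRight b) fun x hx => ?_, hb⟩
  · rw [LinearMap.add_apply, LinearMap.comp_apply, hl', LinearMap.smulRight_apply,
      (hφ (a w)).2 ⟨w, rfl⟩, zero_smul, add_zero]
  · rw [LinearMap.add_apply, LinearMap.smulRight_apply, hx, zero_smul, add_zero]

theorem coc_smul_one (c : F) : Coc (c • (1 : End F F)) :=
  ⟨LinearMap.id, fun S h1 _ => by
    rw [Submodule.eq_bot_iff]
    exact fun x hx => h1 x hx⟩

theorem charpoly_smul_one (c : F) : LinearMap.charpoly (c • (1 : End F F)) = X - C c := by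
  rw [← LinearMap.charpoly_toMatrix _ (Basis.singleton Unit F), Matrix.charpoly]
  simp [Matrix.charmatrix, Matrix.det_unique]


theorem det_eq_charpoly [FiniteDimensional F V] (T : End F V) :
    LinearMap.det T = (-1) ^ finrank F V * (LinearMap.charpoly T).coeff 0 :=
  LinearMap.det_eq_sign_charpoly_coeff T

/-- **The main factorization theorem.** -/
theorem thmH [Finite F] (hq : 4 ≤ Nat.card F) [FiniteDimensional F V] (hn : 2 ≤ finrank F V)
    {g : End F V} (hg : NS g) (hg0 : LinearMap.det g ≠ 0) {ν : F} {p f : F[X]} (hp : p.Monic)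
    (hpd : p.natDegree + 1 = finrank F V) (hp0 : p.coeff 0 ≠ 0) (hpν : p.eval ν ≠ 0) (hf : f.Monic)
    (hfd : f.natDegree = finrank F V)
    (hc : (-1) ^ finrank F V * f.coeff 0 =
      LinearMap.det g * ((-1) ^ finrank F V * ((X - C ν) * p).coeff 0)) :
    ∃ (M Y : End F V) (φ : V →ₗ[F] F), Coc M ∧ LinearMap.charpoly M = (X - C ν) * p ∧
      LinearMap.charpoly Y = f ∧ g * M = Y ∧ Obs φ Y ∧ ∀ x, φ (M x) = ν * φ x := by
  obtain ⟨φ, hφ⟩ := hg.exists_dual
  let e : V ≃ₗ[F] V := LinearMap.equivOfDetNeZero g hg0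
  have he : ∀ x, e x = g x := fun x => rfl
  -- the hyperplane
  let H : Submodule F V := LinearMap.ker φ
  have hφ0 : φ ≠ 0 := by
    rintro rfl
    exact hφ 0 (by ext; simp)
  obtain ⟨v, hv⟩ : ∃ v, φ v = 1 := by
    obtain ⟨w, hw⟩ : ∃ w, φ w ≠ 0 := by
      by_contra h
      push Not at h
      exact hφ0 (LinearMap.ext h)
    exact ⟨(φ w)⁻¹ • w, by rw [map_smul, smul_eq_mul, inv_mul_cancel₀ hw]⟩
  have hHd : finrank F H + 1 = finrank F V := by
    have h1 := LinearMap.finrank_range_add_finrank_ker φ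
    have h2 : LinearMap.range φ = ⊤ := LinearMap.range_eq_top.2 fun c => ⟨c • v, by simp [hv]⟩
    rw [h2, finrank_top, finrank_self] at h1
    change 1 + finrank F H = finrank F V at h1
    omega
  let χ : H →ₗ[F] F := (φ ∘ₗ g) ∘ₗ H.subtype
  have hχ : ∀ h : H, χ h = φ (g h) := fun h => rfl
  have hχ0 : χ ≠ 0 := by
    intro h
    apply hφ (φ (g v))
    ext x
    have h1 : χ ⟨x - φ x • v, by simp [H, hv]⟩ = 0 := by rw [h]; rfl
    rw [hχ] at h1
    simp only [map_sub, map_smul, smul_eq_mul] at h1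
    rw [LinearMap.comp_apply, LinearMap.smul_apply, smul_eq_mul, sub_eq_zero.1 h1, mul_comm]
  let K : Submodule F H := LinearMap.ker χ
  have hKd : finrank F H = finrank F K + 1 := by
    have h1 := LinearMap.finrank_range_add_finrank_ker χ
    have h2 : LinearMap.range χ = ⊤ := by
      rw [LinearMap.range_eq_top]
      exact LinearMap.surjective hχ0
    rw [h2, finrank_top, finrank_self] at h1
    change 1 + finrank F K = finrank F H at h1
    omega
  let b : K →ₗ[F] H := K.subtype
  let a : K →ₗ[F] H := LinearMap.codRestrict H (g ∘ₗ H.subtype ∘ₗ K.subtype) fun k => k.2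
  have ha : ∀ k : K, ((a k : H) : V) = g (k : H) := fun k => rfl
  have hainj : Function.Injective a := by
    intro x y h
    have h1 := congrArg (fun z : H => (z : V)) h
    simp only [ha, ← he] at h1
    exact Subtype.ext (Subtype.ext (e.injective h1))
  obtain ⟨D, hDa, hDb⟩ := exists_pencil hq hKd a b hainj Subtype.val_injective
  -- the map on the hyperplane
  let φ' : H →ₗ[F] F := (φ ∘ₗ (e.symm : V →ₗ[F] V)) ∘ₗ H.subtype
  have hφ' : ∀ h : H, φ' h = φ (e.symm h) := fun h => rfl
  have hker : ∀ x, φ' x = 0 ↔ ∃ w, a w = x := by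
    intro x
    constructor
    · intro h
      rw [hφ'] at h
      refine ⟨⟨⟨e.symm x, h⟩, ?_⟩, ?_⟩
      · change φ (g (e.symm x)) = 0
        rw [← he, e.apply_symm_apply]; exact x.2
      · apply Subtype.ext
        rw [ha]
        change g (e.symm x) = x
        rw [← he, e.apply_symm_apply]
    · rintro ⟨w, rfl⟩
      rw [hφ', ha, ← he, e.symm_apply_apply]
      exact w.1.2
  obtain ⟨Z, hZa, hZO, hZc⟩ := exists_extend (p := p) hainj hker hDa hp (by omega)
  have hZinj : Function.Injective Z := by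
    have h1 : LinearMap.det Z ≠ 0 := by
      rw [det_eq_charpoly, hZc]
      exact mul_ne_zero (pow_ne_zero _ (by simp)) hp0
    exact (LinearMap.equivOfDetNeZero Z h1).injective
  -- the projection onto the hyperplane
  let π : V →ₗ[F] H := LinearMap.codRestrict H (LinearMap.id - φ.smulRight v) fun x => by
    simp [H, hv]
  have hπ : ∀ x, ((π x : H) : V) = x - φ x • v := fun x => rfl
  have hπH : ∀ x : H, π x = x := by
    intro x
    apply Subtype.ext
    rw [hπ, show φ (x : V) = 0 from x.2, zero_smul, sub_zero]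
  let Y0 : End F V := g ∘ₗ H.subtype ∘ₗ Z ∘ₗ π
  have hY0 : ∀ x, Y0 x = g (Z (π x) : H) := fun x => rfl
  have hO : Obs φ Y0 := by
    intro S h1 h2
    have h3 := hDb (((S.comap H.subtype).map Z).comap b) (by
      intro w hw
      obtain ⟨h, hh, hw⟩ := hw
      -- `a w ∈ S`
      have h4 : ((a w : H) : V) ∈ S := by
        rw [ha]
        have h5 := h2 h hh
        rw [hY0, hπH, hw] at h5
        exact h5
      have h5 : χ (D w) = 0 := by
        rw [hχ, ← hZa]
        have h6 := h1 _ (h2 _ h4)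
        rw [hY0, hπH] at h6
        exact h6
      refine ⟨⟨D w, h5⟩, ?_, rfl⟩
      exact ⟨a w, h4, hZa w⟩)
    rw [Submodule.eq_bot_iff] at h3 ⊢
    intro x hx
    have hxH : x ∈ H := h1 x hx
    have h4 : χ (Z ⟨x, hxH⟩) = 0 := by
      rw [hχ]
      have h6 := h1 _ (h2 _ hx)
      rw [hY0] at h6
      have h7 := hπH ⟨x, hxH⟩
      rw [show π x = ⟨x, hxH⟩ from h7] at h6
      exact h6
    have h5 := h3 ⟨Z ⟨x, hxH⟩, h4⟩ ⟨⟨x, hxH⟩, hx, rfl⟩
    have h6 : Z ⟨x, hxH⟩ = 0 := congrArg Subtype.val h5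
    rw [← map_zero Z] at h6
    exact congrArg Subtype.val (hZinj h6)
  obtain ⟨c, hYc⟩ := exists_charpoly_add hO hf hfd
  set Y : End F V := Y0 + φ.smulRight c with hYdef
  let M : End F V := (e.symm : V →ₗ[F] V) ∘ₗ Y
  have hgM : g * M = Y := by
    ext x
    change g (e.symm (Y x)) = Y x
    rw [← he, e.apply_symm_apply]
  have hM : ∀ x, M x = (Z (π x) : H) + φ x • e.symm c := by
    intro x
    change e.symm (Y x) = _
    rw [hYdef, LinearMap.add_apply, map_add, hY0, ← he, e.symm_apply_apply, LinearMap.smulRight_apply,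
      map_smul]
  have hφM : ∀ x, φ (M x) = φ (e.symm c) * φ x := by
    intro x
    rw [hM, map_add, show φ ((Z (π x) : H) : V) = 0 from (Z (π x)).2, zero_add, map_smul, smul_eq_mul,
      mul_comm]
  have hOY : Obs φ Y := hO.congr fun x hx => by
    rw [hYdef, LinearMap.add_apply, LinearMap.smulRight_apply, hx, zero_smul, add_zero]
  -- `M` in block form
  have hsim : ∃ R : F →ₗ[F] H, Sim (up Z R (φ (e.symm c) • (1 : End F F))) M := by
    let E : (H × F) ≃ₗ[F] V :=
      { toFun := fun x => (x.1 : V) + x.2 • v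
        map_add' := fun x y => by simp only [Prod.fst_add, Prod.snd_add, Submodule.coe_add]; module
        map_smul' := fun r x => by
          simp only [Prod.smul_fst, Prod.smul_snd, Submodule.coe_smul, RingHom.id_apply, smul_eq_mul]
          module
        invFun := fun x => (π x, φ x)
        left_inv := fun x => by
          have h1 : φ ((x.1 : V) + x.2 • v) = x.2 := by
            rw [map_add, map_smul, hv, show φ (x.1 : V) = 0 from x.1.2, zero_add, smul_eq_mul, mul_one]
          refine Prod.ext (Subtype.ext ?_) h1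
          rw [hπ, h1, add_sub_cancel_right]
        right_inv := fun x => by
          change ((π x : H) : V) + φ x • v = x
          rw [hπ, sub_add_cancel] }
    have hE : ∀ x, E x = (x.1 : V) + x.2 • v := fun x => rfl
    refine ⟨LinearMap.toSpanSingleton F H (π (e.symm c)), E, fun x => ?_⟩
    have h1 : φ ((x.1 : V) + x.2 • v) = x.2 := by
      rw [map_add, map_smul, hv, show φ (x.1 : V) = 0 from x.1.2, zero_add, smul_eq_mul, mul_one]
    have h2 : π ((x.1 : V) + x.2 • v) = x.1 := by
      apply Subtype.ext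
      rw [hπ, h1, add_sub_cancel_right]
    rw [hE, hE, hM, h1, h2, up_apply]
    simp only [Submodule.coe_add, LinearMap.toSpanSingleton_apply, Submodule.coe_smul,
      LinearMap.smul_apply, Module.End.one_apply, hπ, smul_eq_mul]
    module
  obtain ⟨R, hR⟩ := hsim
  have hMc : LinearMap.charpoly M = (X - C (φ (e.symm c))) * p := by
    rw [← hR.charpoly, charpoly_up, hZc, charpoly_smul_one, mul_comm]
  -- the eigenvalue
  have hνeq : φ (e.symm c) = ν := by
    have h1 : LinearMap.det Y = LinearMap.det g * LinearMap.det M := by rw [← hgM, map_mul]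
    rw [det_eq_charpoly Y, det_eq_charpoly M, hYc, hMc, hc] at h1
    have h2 := mul_left_cancel₀ hg0 h1
    have h3 := mul_left_cancel₀ (pow_ne_zero _ (by simp : (-1 : F) ≠ 0)) h2
    rw [mul_coeff_zero, mul_coeff_zero] at h3
    have h4 := mul_right_cancel₀ hp0 h3
    simpa using h4.symm
  rw [hνeq] at hMc hφM hR
  refine ⟨M, Y, φ, ?_, hMc, hYc, hgM, hOY, hφM⟩
  refine Coc.sim hR (Coc.up R ⟨φ', hZO⟩ (coc_smul_one ν) ?_)
  rw [hZc, charpoly_smul_one]
  have h5 : IsCoprime (X - C ν) p := by
    rw [(Polynomial.irreducible_X_sub_C ν).coprime_iff_not_dvd, Polynomial.dvd_iff_isRoot]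
    exact hpν
  exact h5.symm

end Cfsg.Agent.H166.Cov
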